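import Groth.Agent.Lib.HilbObs3.Lift
import Groth.Agent.Lib.HilbRS3.Surj
import Groth.Agent.Lib.HilbRS3.Fibre
import Mathlib.RingTheory.TensorProduct.Quotient

/-!
# Charts of a small extension
-/

set_option autoImplicit false
set_option linter.style.haveILetI false
set_option backward.isDefEq.respectTransparency.types false

universe u

open CategoryTheory CategoryTheory.Limits AlgebraicGeometry IsLocalRing Opposite

namespace Groth.Agent.HilbObs3

open ArtFun ArtFun.Art HilbRS3

theorem flat_quotientMap {R : Type u} [CommRing R] (I : Ideal R) {S : Type u} [CommRing S] {φ : R →+* S}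
    (h : φ.Flat) : (Ideal.quotientMap (I.map φ) φ Ideal.le_comap_map).Flat := by
  letI := φ.toAlgebra
  haveI : Module.Flat R S := h
  haveI : Module.Flat (R ⧸ I) (TensorProduct R (R ⧸ I) S) := Module.Flat.baseChange R (R ⧸ I) S
  have hflat : Module.Flat (R ⧸ I) (S ⧸ I.map (algebraMap R S)) :=
    Module.Flat.of_linearEquiv (Algebra.TensorProduct.quotIdealMapEquivQuotTensor S I).toLinearEquiv
  have e : Ideal.quotientMap (I.map (algebraMap R S)) (algebraMap R S) Ideal.le_comap_map =
      algebraMap (R ⧸ I) (S ⧸ I.map (algebraMap R S)) :=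
    Ideal.Quotient.ringHom_ext (RingHom.ext fun r => rfl)
  show (Ideal.quotientMap (I.map (algebraMap R S)) (algebraMap R S) Ideal.le_comap_map).Flat
  rw [e]
  exact RingHom.flat_algebraMap_iff.2 hflat

variable {k : Type u} [Field k] {X : Scheme.{u}} (x : X ⟶ Art.specPt k) {I₀ : X.IdealSheafData}

theorem isNilpotent_m (A : Art k k) : IsNilpotent (maximalIdeal A) := by
  rw [← IsLocalRing.jacobson_eq_maximalIdeal ⊥ bot_ne_top]; exact IsArtinianRing.isNilpotent_jacobson_bot

theorem ker_cι₀ (A : Art k k) (U : X.affineOpens) :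
    RingHom.ker (cι₀ x A U) = (maximalIdeal A).map (cσ x A U) := by
  refine le_antisymm (fun y hy => ?_) (Ideal.map_le_iff_le_comap.2 fun a ha => ?_)
  · have key : ∀ z, z - cι x A U (cι₀ x A U z) ∈ (maximalIdeal A).map (cσ x A U) := by
      intro z
      induction (bc_base x A U).2.1 z using AddSubgroup.closure_induction with
      | mem z hz =>
        obtain ⟨a, r, rfl⟩ := hz
        rw [map_mul, cι₀_cι, cι₀_cσ, map_mul, cι_str, ← sub_mul, ← map_sub]
        refine Ideal.mul_mem_right _ _ (Ideal.mem_map_of_mem _ ?_)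
        rw [A.mem_maximalIdeal_iff, map_sub, AlgHom.commutes]
        exact sub_self _
      | zero => simp
      | add z w _ _ hz hw => rw [map_add, map_add, add_sub_add_comm]; exact add_mem hz hw
      | neg z _ hz => rw [map_neg, map_neg, ← neg_sub']; exact neg_mem hz
    have h := key y
    rwa [RingHom.mem_ker.1 hy, map_zero, sub_zero] at h
  · rw [Ideal.mem_comap, RingHom.mem_ker, cι₀_cσ, (A.mem_maximalIdeal_iff _).1 ha, map_zero]

theorem cι₀_cπ {A B : Art k k} (p : B ⟶ A) (U : X.affineOpens) (y) :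
    cι₀ x A U (cπ x p U y) = cι₀ x B U y := by
  have h : (XAmap x p).appLE (chart x B U).1 (chart x A U).1 (preimage_chart x p U).ge ≫
      (XAincl x A).appLE (chart x A U).1 U.1 (preimage_incl x A U).ge =
      (XAincl x B).appLE (chart x B U).1 U.1 (preimage_incl x B U).ge := by
    rw [Scheme.Hom.appLE_comp_appLE]
    simp only [XAincl_XAmap]
  exact congrArg (fun φ : Γ(XA x B, (chart x B U).1) ⟶ Γ(X, U.1) => φ.hom y) h

variable {B A : Art k k} (p : B ⟶ A)

theorem cπ_surjective (hp : Function.Surjective p) (U : X.affineOpens) : Function.Surjective (cπ x p U) := by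
  intro z
  induction (bc x p U).2.1 z using AddSubgroup.closure_induction with
  | mem z hz =>
    obtain ⟨a, s, rfl⟩ := hz
    obtain ⟨b, rfl⟩ := hp a
    exact ⟨cσ x B U b * s, by rw [map_mul, cπ_cσ]⟩
  | zero => exact ⟨0, map_zero _⟩
  | add z w _ _ hz hw =>
    obtain ⟨a, rfl⟩ := hz
    obtain ⟨b, rfl⟩ := hw
    exact ⟨a + b, map_add _ _ _⟩
  | neg z _ hz =>
    obtain ⟨a, rfl⟩ := hz
    exact ⟨-a, map_neg _ _⟩

theorem ker_cπ {t : B} (ht : RingHom.ker p.toAlgHom = Ideal.span {t}) (U : X.affineOpens) :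
    RingHom.ker (cπ x p U) = Ideal.span {cσ x B U t} := by
  refine le_antisymm (fun y hy => ?_) ((Ideal.span_singleton_le_iff_mem _).2 ?_)
  · obtain ⟨ι, r, hr⟩ := exists_basis (isNilpotent_m B) (cσ x B U) ⊥
      ((RingHom.Flat.of_bijective (f := (RingEquiv.quotientBot Γ(XA x B, (chart x B U).1)).symm.toRingHom)
        (RingEquiv.bijective _)) |> fun h => (flat_cσ x B U).comp h)
    obtain ⟨c, hc⟩ := hr.1 y
    rw [Ideal.mem_bot, sub_eq_zero] at hc
    subst hc
    have h1 := ((bc x p U).push hr).2 (c.mapRange p.toAlgHom.toRingHom (map_zero _)) (by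
      rw [← (bc x p U).comb_map, RingHom.mem_ker.1 hy]; exact zero_mem _)
    have h2 : ∀ i, c i ∈ Ideal.span {t} := fun i => by
      rw [← ht]
      exact RingHom.mem_ker.2 (by simpa using congrArg (fun d : ι →₀ A => d i) h1)
    clear h1 hy hr
    classical
    induction c using Finsupp.induction with
    | zero => rw [map_zero]; exact zero_mem _
    | single_add i b d hi _ ih =>
      rw [map_add, comb_single]
      refine add_mem (Ideal.mul_mem_right _ _ ?_) (ih fun j => ?_)
      · have := h2 i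
        simp [Finsupp.notMem_support_iff.1 hi] at this
        obtain ⟨q, hq⟩ := Ideal.mem_span_singleton'.1 this
        rw [← hq, map_mul]
        exact Ideal.mul_mem_left _ _ (Ideal.mem_span_singleton_self _)
      · by_cases hji : j = i
        · rw [hji, Finsupp.notMem_support_iff.1 hi]; exact zero_mem _
        · simpa [Finsupp.single_eq_of_ne hji] using h2 j
  · rw [RingHom.mem_ker, cπ_cσ,
      show p.toAlgHom t = 0 from RingHom.mem_ker.1 (ht.symm ▸ Ideal.mem_span_singleton_self t), map_zero]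

/-- The step of a small extension on a chart. -/
noncomputable def stepOf (hp : IsSmallExt p) {t : B} (ht : RingHom.ker p.toAlgHom = Ideal.span {t})
    (U : X.affineOpens) : Step B.carrier Γ(XA x B, (chart x B U).1) Γ(X, U.1) where
  σ := cσ x B U
  ι₀ := cι₀ x B U
  κ := cι x B U
  t := t
  ι₀_κ := cι₀_cι x B U
  ker_ι₀ := ker_cι₀ x B U
  mul_t b hb := by
    have h := Ideal.mul_mem_mul hb (show t ∈ RingHom.ker p.toAlgHom from ht.symm ▸ Ideal.mem_span_singleton_self t)
    rw [hp.2.2.2, Ideal.mem_bot] at h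
    rw [mul_comm]; exact h
  ann_t b hb := by
    by_contra hu
    obtain ⟨v, rfl⟩ := (not_not.1 ((not_congr (mem_maximalIdeal b)).1 hu) : IsUnit b)
    exact hp.2.1 (by rw [ht, (v.isUnit.mul_left_eq_zero).1 hb]; simp)
  t_mem := ArtFunLib.ker_le p (ht.symm ▸ Ideal.mem_span_singleton_self t)
  nilp := isNilpotent_m B

variable (J : (ArtFun.localHilb X x I₀).obj A)

/-- The preimage of the given deformation. -/
noncomputable def preP (U : X.affineOpens) : Ideal Γ(XA x B, (chart x B U).1) :=
  (J.1.ideal (chart x A U)).comap (cπ x p U)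

/-- A lift on a chart. -/
def LiftOn (hp : IsSmallExt p) {t : B} (ht : RingHom.ker p.toAlgHom = Ideal.span {t}) (U : X.affineOpens)
    (J' : Ideal Γ(XA x B, (chart x B U).1)) : Prop :=
  IsLift (stepOf x p hp ht U) (preP x p J U) (I₀.ideal U) J'

theorem liftOn_iff (hp : IsSmallExt p) {t : B} (ht : RingHom.ker p.toAlgHom = Ideal.span {t}) (U : X.affineOpens)
    (J' : Ideal Γ(XA x B, (chart x B U).1)) : LiftOn x p J hp ht U J' ↔
      ((Ideal.Quotient.mk J').comp (cσ x B U)).Flat ∧ J'.map (cπ x p U) = J.1.ideal (chart x A U) := by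
  have hs := cπ_surjective x p hp.1 U
  have e : (J'.map (cπ x p U)).comap (cπ x p U) = J' ⊔ Ideal.span {cσ x B U t} := by
    rw [Ideal.comap_map_of_surjective _ hs, ← RingHom.ker_eq_comap_bot, ker_cπ x p ht]
  constructor
  · intro h
    refine ⟨h.flat, Ideal.comap_injective_of_surjective _ hs ?_⟩
    rw [e]; exact h.sup_eq
  · rintro ⟨h1, h2⟩
    refine ⟨h1, ?_, ?_⟩
    · show J' ⊔ Ideal.span {cσ x B U t} = _
      rw [← e, h2]; rfl
    · show J'.map (cι₀ x B U) = _
      rw [← comap_incl x J U, ← h2, Ideal.map_map]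
      congr 1
      exact RingHom.ext fun y => (cι₀_cπ x p U y).symm

section Restrict

variable {U W : X.affineOpens} (h : W.1 ≤ U.1)

theorem chart_mono (A : Art k k) (h : W.1 ≤ U.1) : (chart x A W).1 ≤ (chart x A U).1 :=
  (pullback.fst x (specOver A)).preimage_mono h

/-- Restriction between charts. -/
noncomputable def cres (A : Art k k) (h : W.1 ≤ U.1) : Γ(XA x A, (chart x A U).1) →+* Γ(XA x A, (chart x A W).1) :=
  ((XA x A).presheaf.map (homOfLE (chart_mono x A h)).op).hom

theorem cres_cι (A : Art k k) (r : Γ(X, U.1)) :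
    cres x A h (cι x A U r) = cι x A W (X.presheaf.map (homOfLE h).op r) :=
  cι_res x A h (chart_mono x A h) r

theorem cres_cσ (A : Art k k) (a : A) : cres x A h (cσ x A U a) = cσ x A W a :=
  ThickAff3.res_str _ (chart_mono x A h) a

theorem cι₀_cres (A : Art k k) (y) : cι₀ x A W (cres x A h y) = X.presheaf.map (homOfLE h).op (cι₀ x A U y) := by
  show ((XA x A).presheaf.map (homOfLE (chart_mono x A h)).op ≫ (XAincl x A).appLE _ W.1 (preimage_incl x A W).ge) y =
    ((XAincl x A).appLE _ U.1 (preimage_incl x A U).ge ≫ X.presheaf.map (homOfLE h).op) y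
  rw [Scheme.Hom.map_appLE, Scheme.Hom.appLE_map]

theorem cπ_cres (y) : cπ x p W (cres x B h y) = cres x A h (cπ x p U y) := by
  show ((XA x B).presheaf.map (homOfLE (chart_mono x B h)).op ≫
      (XAmap x p).appLE (chart x B W).1 (chart x A W).1 (preimage_chart x p W).ge) y =
    ((XAmap x p).appLE (chart x B U).1 (chart x A U).1 (preimage_chart x p U).ge ≫
      (XA x A).presheaf.map (homOfLE (chart_mono x A h)).op) y
  rw [Scheme.Hom.map_appLE, Scheme.Hom.appLE_map]

theorem flat_cres (A : Art k k) : (cres x A h).Flat := by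
  have h1 := HasRingHomProperty.appLE @Flat (𝟙 (XA x A)) inferInstance (chart x A U) (chart x A W)
    (chart_mono x A h)
  have e : (𝟙 (XA x A) : XA x A ⟶ _).appLE (chart x A U).1 (chart x A W).1 (chart_mono x A h) =
      (XA x A).presheaf.map (homOfLE (chart_mono x A h)).op := by
    simp [Scheme.Hom.appLE]
    rfl
  rw [e] at h1
  exact h1

theorem liftOn_res (hp : IsSmallExt p) {t : B} (ht : RingHom.ker p.toAlgHom = Ideal.span {t})
    {J' : Ideal Γ(XA x B, (chart x B U).1)} (hJ : LiftOn x p J hp ht U J') :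
    LiftOn x p J hp ht W (J'.map (cres x B h)) := by
  rw [liftOn_iff] at hJ ⊢
  refine ⟨?_, ?_⟩
  · have h2 := hJ.1.comp (flat_quotientMap J' (flat_cres x h B))
    have e : (Ideal.quotientMap (J'.map (cres x B h)) (cres x B h) Ideal.le_comap_map).comp
        ((Ideal.Quotient.mk J').comp (cσ x B U)) = (Ideal.Quotient.mk (J'.map (cres x B h))).comp (cσ x B W) :=
      RingHom.ext fun b => congrArg (Ideal.Quotient.mk (J'.map (cres x B h))) (cres_cσ x h B b)
    rwa [e] at h2
  · rw [Ideal.map_map, show (cπ x p W).comp (cres x B h) = (cres x A h).comp (cπ x p U) from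
      RingHom.ext (cπ_cres x p h), ← Ideal.map_map, hJ.2]
    exact J.1.map_ideal (U := chart x A W) (V := chart x A U) (chart_mono x A h)

theorem diff_res (hp : IsSmallExt p) {t : B} (ht : RingHom.ker p.toAlgHom = Ideal.span {t})
    {J' J'' : Ideal Γ(XA x B, (chart x B U).1)} {f g : Γ(X, U.1)} (hd : Diff (stepOf x p hp ht U) J' J'' f g) :
    Diff (stepOf x p hp ht W) (J'.map (cres x B h)) (J''.map (cres x B h))
      (X.presheaf.map (homOfLE h).op f) (X.presheaf.map (homOfLE h).op g) := by
  obtain ⟨y, hy, hyf, hyg⟩ := hd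
  refine ⟨cres x B h y, Ideal.mem_map_of_mem _ hy, ?_, ?_⟩
  · show cι₀ x B W _ = _
    rw [cι₀_cres, ← hyf]; rfl
  · convert Ideal.mem_map_of_mem (cres x B h) hyg using 1
    show _ + cσ x B W t * cι x B W _ = cres x B h (y + cσ x B U t * cι x B U g)
    rw [map_add, map_mul, cres_cι, cres_cσ]

end Restrict

end Groth.Agent.HilbObs3
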