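import Groth.Agent.Lib.GrpQuot.SubDescFam
import Groth.Agent.Lib.EffCartier.Comap

/-!
# Gluing ideal sheaves given on finitely many affine opens
-/

set_option autoImplicit false
set_option linter.style.haveILetI false
set_option backward.isDefEq.respectTransparency.types false

universe u

open CategoryTheory CategoryTheory.Limits AlgebraicGeometry Opposite

namespace Groth.Agent.HilbObs3

variable {Z : Scheme.{u}}

/-- An ideal on an affine open as an ideal sheaf on it. -/
noncomputable def openIdeal (V : Z.affineOpens) (L : Ideal Γ(Z, V.1)) : V.1.toScheme.IdealSheafData :=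
  Scheme.IdealSheafData.ofIdealTop (L.map (V.1.ι.appLE V.1 ⊤ (by simp)).hom)

theorem openIdeal_ideal (V : Z.affineOpens) (L : Ideal Γ(Z, V.1)) {T : Scheme.{u}} (g : T ⟶ V.1.toScheme)
    (Q : T.affineOpens) :
    ((openIdeal V L).comap g).ideal Q = L.map ((g ≫ V.1.ι).appLE V.1 Q.1 (by simp)).hom := by
  haveI : IsAffine V.1.toScheme := V.2
  rw [EffCartier.comap_ideal (openIdeal V L) g ⟨⊤, isAffineOpen_top _⟩ Q (by simp)]
  have h : (openIdeal V L).ideal ⟨⊤, isAffineOpen_top _⟩ = L.map (V.1.ι.appLE V.1 ⊤ (by simp)).hom := by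
    rw [openIdeal, Scheme.IdealSheafData.ofIdealTop_ideal]
    rw [show (homOfLE (le_refl (⊤ : V.1.toScheme.Opens))).op = 𝟙 _ from rfl, CategoryTheory.Functor.map_id]
    exact Ideal.map_id _
  rw [h, Ideal.map_map, ← CommRingCat.hom_comp, Scheme.Hom.appLE_comp_appLE]

/-- Ideals on a finite affine cover agreeing on the affine opens of the overlaps glue. -/
theorem exists_idealSheaf [QuasiSeparatedSpace Z] {n : ℕ} (V : Fin n → Z.affineOpens) (hcov : ⨆ i, (V i).1 = ⊤)
    (L : ∀ i, Ideal Γ(Z, (V i).1))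
    (h : ∀ (i j : Fin n) (W : Z.affineOpens) (hi : W.1 ≤ (V i).1) (hj : W.1 ≤ (V j).1),
      (L i).map (Z.presheaf.map (homOfLE hi).op).hom = (L j).map (Z.presheaf.map (homOfLE hj).op).hom) :
    ∃ K : Z.IdealSheafData, ∀ i, K.ideal (V i) = L i := by
  let U : Fin n → Scheme.{u} := fun i => (V i).1.toScheme
  haveI : ∀ i, IsAffine (U i) := fun i => (V i).2
  haveI : ∀ i, CompactSpace (U i) := fun i => inferInstance
  let π : (∐ U) ⟶ Z := Sigma.desc fun i => (V i).1.ι
  haveI : Flat π := IsZariskiLocalAtSource.of_openCover (sigmaOpenCover U) fun i => by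
    show Flat (Sigma.ι U i ≫ π)
    rw [Sigma.ι_desc]; infer_instance
  haveI : Surjective π := ⟨fun z => by
    obtain ⟨i, hi⟩ := TopologicalSpace.Opens.mem_iSup.1 (show z ∈ ⨆ i, (V i).1 from hcov.symm ▸ trivial)
    refine ⟨Sigma.ι U i ⟨z, hi⟩, ?_⟩
    rw [← Scheme.Hom.comp_apply, Sigma.ι_desc]
    rfl⟩
  haveI : QuasiCompact π := by
    haveI : IsAffine (∐ U) := inferInstance
    haveI : CompactSpace (∐ U : Scheme.{u}) := inferInstance
    exact quasiCompact_of_compactSpace π
  obtain ⟨J, hJ⟩ := GrpQuot.SubDesc.exists_comap_sigma_ι U fun i => openIdeal (V i) (L i)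
  have hdd : J.comap (pullback.fst π π) = J.comap (pullback.snd π π) := by
    refine GrpQuot.SubDesc.ext_openCover
      (Scheme.Pullback.openCoverOfLeftRight (sigmaOpenCover U) (sigmaOpenCover U) π π) fun p => ?_
    rw [← Scheme.IdealSheafData.comap_comp, ← Scheme.IdealSheafData.comap_comp]
    let A := pullback (Sigma.ι U p.1 ≫ π) (Sigma.ι U p.2 ≫ π)
    let m : A ⟶ pullback π π :=
      pullback.map _ _ π π (Sigma.ι U p.1) (Sigma.ι U p.2) (𝟙 _) (by simp) (by simp)
    show J.comap (m ≫ pullback.fst π π) = J.comap (m ≫ pullback.snd π π)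
    rw [show m ≫ pullback.fst π π = pullback.fst _ _ ≫ Sigma.ι U p.1 from pullback.lift_fst _ _ _,
      show m ≫ pullback.snd π π = pullback.snd _ _ ≫ Sigma.ι U p.2 from pullback.lift_snd _ _ _,
      Scheme.IdealSheafData.comap_comp, Scheme.IdealSheafData.comap_comp, hJ, hJ]
    haveI : IsOpenImmersion (Sigma.ι U p.1 ≫ π) := by rw [Sigma.ι_desc]; infer_instance
    haveI : IsOpenImmersion (Sigma.ι U p.2 ≫ π) := by rw [Sigma.ι_desc]; infer_instance
    let a : A ⟶ U p.1 := pullback.fst _ _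
    let b : A ⟶ U p.2 := pullback.snd _ _
    show (openIdeal (V p.1) (L p.1)).comap a = (openIdeal (V p.2) (L p.2)).comap b
    have hab : a ≫ (V p.1).1.ι = b ≫ (V p.2).1.ι := by
      have := pullback.condition (f := Sigma.ι U p.1 ≫ π) (g := Sigma.ι U p.2 ≫ π)
      simp only [π, Sigma.ι_desc] at this
      exact this
    haveI : IsOpenImmersion (a ≫ (V p.1).1.ι) := inferInstance
    refine Scheme.IdealSheafData.ext (funext fun Q => ?_)
    rw [openIdeal_ideal, openIdeal_ideal]
    let W : Z.affineOpens := ⟨(a ≫ (V p.1).1.ι) ''ᵁ Q.1, Q.2.image_of_isOpenImmersion _⟩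
    have hWi : W.1 ≤ (V p.1).1 := by
      rintro _ ⟨q, -, rfl⟩
      exact (a q).2
    have hWj : W.1 ≤ (V p.2).1 := by
      rintro _ ⟨q, -, rfl⟩
      have e := congrArg (fun φ : A ⟶ Z => φ q) hab
      exact Set.mem_of_eq_of_mem e (b q).2
    have he := congrArg (Ideal.map ((a ≫ (V p.1).1.ι).appLE W.1 Q.1
      ((Scheme.Hom.preimage_image_eq _ _).ge)).hom) (h p.1 p.2 W hWi hWj)
    rw [Ideal.map_map, Ideal.map_map, ← CommRingCat.hom_comp, ← CommRingCat.hom_comp,
      Scheme.Hom.map_appLE, Scheme.Hom.map_appLE] at he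
    rw [he]
    simp only [hab]
  refine ⟨J.map π, fun i => ?_⟩
  have hK : (J.map π).comap (V i).1.ι = openIdeal (V i) (L i) := by
    rw [show (V i).1.ι = Sigma.ι U i ≫ π from (Sigma.ι_desc (fun i => (V i).1.ι) i).symm, Scheme.IdealSheafData.comap_comp,
      GrpQuot.SubDesc.comap_map_of_comap_eq π J hdd, hJ]
  haveI : IsAffine (V i).1.toScheme := (V i).2
  have he := congrArg (fun I => I.ideal ⟨⊤, isAffineOpen_top _⟩) hK
  rw [EffCartier.comap_ideal (J.map π) (V i).1.ι (V i) ⟨⊤, isAffineOpen_top _⟩ (by simp)] at he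
  have h2 := openIdeal_ideal (V i) (L i) (𝟙 _) ⟨⊤, isAffineOpen_top _⟩
  rw [Scheme.IdealSheafData.comap_id] at h2
  simp only [Category.id_comp] at h2
  rw [h2] at he
  have hbij := GrpQuot.SubDesc.bijective_ι_appLE (V i).1 (by simp : (⊤ : (V i).1.toScheme.Opens) ≤ (V i).1.ι ⁻¹ᵁ (V i).1)
  have := congrArg (Ideal.comap ((V i).1.ι.appLE (V i).1 ⊤ (by simp)).hom) he
  rwa [Ideal.comap_map_of_bijective _ hbij, Ideal.comap_map_of_bijective _ hbij] at this

end Groth.Agent.HilbObs3
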