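import Groth.Agent.Lib.HilbObs3.Glue
import Groth.Agent.Lib.ArtFun.Basic

/-!
# Surjectivity of the local Hilbert functor from local lifts
-/

set_option autoImplicit false
set_option linter.style.haveILetI false
set_option backward.isDefEq.respectTransparency.types false

universe u

open CategoryTheory CategoryTheory.Limits AlgebraicGeometry IsLocalRing Opposite

namespace Groth.Agent.HilbObs3

open ArtFun ArtFun.Art HilbRS3

variable {k : Type u} [Field k] {X : Scheme.{u}} (x : X ⟶ Art.specPt k) {I₀ : X.IdealSheafData}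

theorem isUnit_of_cι₀_eq_one (A : Art k k) (U : X.affineOpens) {y : Γ(XA x A, (chart x A U).1)}
    (h : cι₀ x A U y = 1) : IsUnit y := by
  have hy : y - 1 ∈ (maximalIdeal A).map (cσ x A U) := by
    rw [← ker_cι₀, RingHom.mem_ker, map_sub, map_one, h, sub_self]
  obtain ⟨n, hn⟩ := isNilpotent_m A
  have hnil : IsNilpotent (y - 1) := ⟨n, by
    have := Ideal.pow_mem_pow hy n
    rwa [← Ideal.map_pow, hn, Ideal.zero_eq_bot, Ideal.map_bot, Ideal.mem_bot] at this⟩
  rw [show y = 1 + (y - 1) by ring]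
  exact IsNilpotent.isUnit_one_add hnil

theorem ideal_chart_eq_top {A : Art k k} (J : (ArtFun.localHilb X x I₀).obj A) (U : X.affineOpens)
    (h : I₀.ideal U = ⊤) : J.1.ideal (chart x A U) = ⊤ := by
  obtain ⟨y, hy, hy1⟩ := HilbRS3.exists_lift x J U (h.symm ▸ Submodule.mem_top : (1 : Γ(X, U.1)) ∈ I₀.ideal U)
  exact Ideal.eq_top_of_isUnit_mem _ hy (isUnit_of_cι₀_eq_one x A U hy1)

theorem exists_affine_top_of_notMem {z : X} (hz : z ∉ Set.range I₀.subschemeι.base) :
    ∃ U : X.affineOpens, z ∈ U.1 ∧ I₀.ideal U = ⊤ := by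
  have ho : IsOpen (Set.range I₀.subschemeι.base)ᶜ := I₀.subschemeι.isClosedEmbedding.isClosed_range.isOpen_compl
  obtain ⟨V, hV, hzV, hVW⟩ := X.isBasis_affineOpens.exists_subset_of_mem_open (show z ∈ (Set.range I₀.subschemeι.base)ᶜ from hz) ho
  obtain ⟨V', hV', rfl⟩ := hV
  refine ⟨⟨V', hV'⟩, hzV, ?_⟩
  rw [Ideal.eq_top_iff_one, ← Scheme.IdealSheafData.ker_subschemeι_app, RingHom.mem_ker, map_one]
  have he : I₀.subschemeι ⁻¹ᵁ V' = ⊥ := by
    ext q
    exact ⟨fun hq => (hVW hq ⟨q, rfl⟩).elim, fun hq => hq.elim⟩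
  haveI : Subsingleton Γ(I₀.subscheme, I₀.subschemeι ⁻¹ᵁ V') :=
    CommRingCat.subsingleton_of_isTerminal (he ▸ I₀.subscheme.sheaf.isTerminalOfEmpty)
  exact Subsingleton.elim _ _

variable {B A : Art k k} (p : B ⟶ A)

/-- Local lifts everywhere give a lift. -/
theorem surjective_map_of_local [LocallyOfFiniteType x] [QuasiCompact x] (hp : IsSmallExt p)
    (hH1 : Subsingleton (Coh.HH X (M2.homMod (ClSub.idealMod I₀) (ClSub.quotMod I₀)) 1))
    (hloc : ∀ (J : (ArtFun.localHilb X x I₀).obj A) (t : B) (ht : RingHom.ker p.toAlgHom = Ideal.span {t})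
      (z : I₀.subscheme), ∃ U : X.affineOpens, I₀.subschemeι.base z ∈ U.1 ∧ ∃ L, LiftOn x p J hp ht U L) :
    Function.Surjective ((ArtFun.localHilb X x I₀).map p) := by
  intro J
  obtain ⟨t, ht⟩ := hp.2.2.1
  have hall : ∀ z : X, ∃ U : X.affineOpens, z ∈ U.1 ∧ ∃ L, LiftOn x p J hp ht U L := by
    intro z
    by_cases hz : z ∈ Set.range I₀.subschemeι.base
    · obtain ⟨w, rfl⟩ := hz
      exact hloc J t ht w
    · obtain ⟨U, hzU, hU⟩ := exists_affine_top_of_notMem hz
      refine ⟨U, hzU, ⊤, (liftOn_iff x p J hp ht U ⊤).2 ⟨?_, ?_⟩⟩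
      · haveI : Subsingleton (Γ(XA x B, (chart x B U).1) ⧸ (⊤ : Ideal Γ(XA x B, (chart x B U).1))) :=
          Ideal.Quotient.subsingleton_iff.2 rfl
        algebraize [(Ideal.Quotient.mk (⊤ : Ideal Γ(XA x B, (chart x B U).1))).comp (cσ x B U)]
        exact Module.Flat.of_free
      · rw [Ideal.map_top, ideal_chart_eq_top x J U hU]
  haveI : CompactSpace X := QuasiCompact.compactSpace_of_compactSpace x
  choose U hzU L hL using hall
  obtain ⟨s, hs⟩ := isCompact_univ.elim_finite_subcover (fun z : X => ((U z).1 : Set X)) (fun z => (U z).1.2)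
    fun z _ => Set.mem_iUnion.2 ⟨z, hzU z⟩
  obtain ⟨n, e⟩ : ∃ n, Nonempty (Fin n ≃ s) := ⟨_, ⟨(Fintype.equivFin s).symm⟩⟩
  obtain ⟨e⟩ := e
  refine exists_lift_of_local x p J hp (fun i => U (e i)) ?_ ht (fun i => L (e i)) (fun i => hL (e i)) hH1
  refine TopologicalSpace.Opens.ext (Set.eq_univ_of_forall fun z => ?_)
  obtain ⟨w, hw, hz⟩ := Set.mem_iUnion₂.1 (hs (Set.mem_univ z))
  exact TopologicalSpace.Opens.mem_iSup.2 ⟨e.symm ⟨w, hw⟩, by rw [Equiv.apply_symm_apply]; exact hz⟩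

/-- Surjectivity along small extensions gives surjectivity along all surjections. -/
theorem surjective_map_of_small {F : Art k k ⥤ Type u}
    (h : ∀ {B A : Art k k} (p : B ⟶ A), IsSmallExt p → Function.Surjective (F.map p)) {B A : Art k k} (f : B ⟶ A)
    (hf : Function.Surjective f) : Function.Surjective (F.map f) := by
  refine ArtFunLib.surjInduction (P := fun A B f => Function.Surjective (F.map f))
    (fun A B e he => ?_) (fun A B p hp => h p hp) (fun A B C p q _ _ hp hq => ?_) f hf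
  · exact fun y => ⟨F.map (inv e) y, by rw [← FunctorToTypes.map_comp_apply, IsIso.inv_hom_id, FunctorToTypes.map_id_apply]⟩
  · rw [F.map_comp]
    exact hq.comp hp

end Groth.Agent.HilbObs3
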