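import Groth.Agent.Lib.HilbObs3.Semismall
import Groth.Agent.Lib.HilbObs3.Main
import Groth.Agent.Lib.CohFound.HFin
import Groth.Agent.Lib.HilbRS3.NormalH0
import Mathlib.LinearAlgebra.Dual.Lemmas

/-!
# The obstructions of the local Hilbert functor lie in a space of dimension `h¹` of the normal sheaf
-/

set_option autoImplicit false
set_option linter.style.haveILetI false
set_option backward.isDefEq.respectTransparency.types false

universe u

open CategoryTheory CategoryTheory.Limits AlgebraicGeometry IsLocalRing Opposite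

namespace Groth.Agent.HilbObs3

open ArtFun ArtFun.Art HilbRS3

variable {k : Type u} [Field k] {X : Scheme.{u}} (x : X ⟶ Art.specPt k) {I₀ : X.IdealSheafData}
variable {B A : Art k k} (p : B ⟶ A) (J : (ArtFun.localHilb X x I₀).obj A)

/-- The ideal of a subspace of the kernel. -/
def kerIdeal (W : Submodule k ↥(RingHom.ker p.toAlgHom)) : Ideal B :=
  Ideal.span ((fun a : ↥(RingHom.ker p.toAlgHom) => (a : B)) '' W)

theorem kerIdeal_le (W : Submodule k ↥(RingHom.ker p.toAlgHom)) : kerIdeal p W ≤ RingHom.ker p.toAlgHom :=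
  Ideal.span_le.2 (by rintro _ ⟨a, -, rfl⟩; exact a.2)

theorem kerIdeal_le_m (W : Submodule k ↥(RingHom.ker p.toAlgHom)) : kerIdeal p W ≤ maximalIdeal B :=
  (kerIdeal_le p W).trans (ArtFunLib.ker_le p)

variable {p}

theorem mul_ker (hp : IsSemismallExt p) {b : B} {a : B} (ha : a ∈ RingHom.ker p.toAlgHom) :
    b * a = algebraMap k B (B.res b) * a := by
  have hm : b - algebraMap k B (B.res b) ∈ maximalIdeal B := by
    rw [B.mem_maximalIdeal_iff, map_sub, AlgHom.commutes]; exact sub_self _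
  have h0 := Ideal.mul_mem_mul hm ha
  rw [hp.2, Ideal.mem_bot, sub_mul, sub_eq_zero] at h0
  exact h0

theorem mem_kerIdeal (hp : IsSemismallExt p) (W : Submodule k ↥(RingHom.ker p.toAlgHom)) {b : B} :
    b ∈ kerIdeal p W ↔ ∃ a ∈ W, (a : B) = b := by
  refine ⟨fun hb => ?_, fun ⟨a, ha, e⟩ => e ▸ Ideal.subset_span ⟨a, ha, rfl⟩⟩
  induction hb using Submodule.span_induction with
  | mem b hb => exact hb
  | zero => exact ⟨0, W.zero_mem, rfl⟩
  | add b c _ _ hb hc =>
    obtain ⟨a, ha, rfl⟩ := hb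
    obtain ⟨a', ha', rfl⟩ := hc
    exact ⟨a + a', W.add_mem ha ha', rfl⟩
  | smul c b _ hb =>
    obtain ⟨a, ha, rfl⟩ := hb
    refine ⟨B.res c • a, W.smul_mem _ ha, ?_⟩
    rw [Submodule.coe_smul_of_tower, Algebra.smul_def, smul_eq_mul]
    exact (mul_ker hp a.2).symm

theorem exists_functional_step (hp : IsSemismallExt p) {lam : ↥(RingHom.ker p.toAlgHom) →ₗ[k] k} (hl : lam ≠ 0) :
    ∃ t : (quot B (kerIdeal p (LinearMap.ker lam)) (kerIdeal_le_m p _)).carrier,
      IsSmallExt (quotFactor (kerIdeal_le_m p (LinearMap.ker lam)) p (kerIdeal_le p _)) ∧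
      RingHom.ker (quotFactor (kerIdeal_le_m p (LinearMap.ker lam)) p (kerIdeal_le p _)).toAlgHom = Ideal.span {t} ∧
      ∀ a : ↥(RingHom.ker p.toAlgHom),
        quotMk B _ (kerIdeal_le_m p (LinearMap.ker lam)) (a : B) = algebraMap k _ (lam a) * t := by
  obtain ⟨a₀, ha₀⟩ : ∃ a, lam a = 1 := by
    obtain ⟨a, ha⟩ : ∃ a, lam a ≠ 0 := by
      by_contra h
      push Not at h
      exact hl (LinearMap.ext h)
    exact ⟨(lam a)⁻¹ • a, by rw [map_smul, smul_eq_mul, inv_mul_cancel₀ ha]⟩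
  let K := kerIdeal p (LinearMap.ker lam)
  let q := quotFactor (kerIdeal_le_m p (LinearMap.ker lam)) p (kerIdeal_le p _)
  let π := quotMk B K (kerIdeal_le_m p (LinearMap.ker lam))
  have hπ : ∀ a : ↥(RingHom.ker p.toAlgHom), π (a : B) = algebraMap k _ (lam a) * π (a₀ : B) := fun a => by
    have h1 : a - lam a • a₀ ∈ LinearMap.ker lam := by
      rw [LinearMap.mem_ker, map_sub, map_smul, ha₀, smul_eq_mul, mul_one, sub_self]
    have h2 : ((a - lam a • a₀ : ↥(RingHom.ker p.toAlgHom)) : B) ∈ K := (mem_kerIdeal hp _).2 ⟨_, h1, rfl⟩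
    rw [Submodule.coe_sub, Submodule.coe_smul_of_tower, Algebra.smul_def] at h2
    refine (Ideal.Quotient.eq.2 h2).trans ((map_mul π.toAlgHom _ _).trans ?_)
    rw [AlgHom.commutes]
  have hker : RingHom.ker q.toAlgHom = Ideal.span {π (a₀ : B)} := by
    refine le_antisymm (fun z hz => ?_) ((Ideal.span_singleton_le_iff_mem _).2 a₀.2)
    obtain ⟨b, rfl⟩ := quotMk_surjective B K (kerIdeal_le_m p _) z
    exact (hπ ⟨b, hz⟩) ▸ Ideal.mul_mem_left _ _ (Ideal.mem_span_singleton_self _)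
  refine ⟨π (a₀ : B), ⟨ArtFunLib.quotFactor_surjective _ _ _ hp.1, ?_, ⟨_, hker⟩, ?_⟩, hker, hπ⟩
  · intro h0
    have h1 : π (a₀ : B) = 0 := by
      rw [← Ideal.mem_bot, ← h0, hker]; exact Ideal.mem_span_singleton_self _
    obtain ⟨a, ha, e⟩ := (mem_kerIdeal hp _).1 (Ideal.Quotient.eq_zero_iff_mem.1 h1 : (a₀ : B) ∈ K)
    rw [Subtype.ext e, LinearMap.mem_ker, ha₀] at ha
    exact one_ne_zero ha
  · refine le_bot_iff.1 (Ideal.mul_le.2 fun a ha c hc => ?_)
    obtain ⟨a, rfl⟩ := quotMk_surjective B K (kerIdeal_le_m p _) a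
    obtain ⟨c, rfl⟩ := quotMk_surjective B K (kerIdeal_le_m p _) c
    rw [Ideal.mem_bot, ← map_mul, (Ideal.mem_bot).1 (hp.2.le (Ideal.mul_mem_mul
      (ArtFunLib.mem_of_map_mem (quotMk B K (kerIdeal_le_m p _)) ha)
      (show c ∈ RingHom.ker p.toAlgHom from hc))), map_zero]

variable (p)

/-- `s` is the obstruction of the functional `lam` between two lifts. -/
def IsObs (lam : ↥(RingHom.ker p.toAlgHom) →ₗ[k] k) {V V' : X.affineOpens}
    (L : Ideal Γ(XA x B, (chart x B V).1)) (L' : Ideal Γ(XA x B, (chart x B V').1))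
    (s : M2.HomSec (ClSub.idealMod I₀) (ClSub.quotMod I₀) (V.1 ⊓ V'.1)) : Prop :=
  ∀ (W : X.affineOpens) (hW : W.1 ≤ V.1 ⊓ V'.1) (m : Γ(ClSub.idealMod I₀, W.1))
    (y : Γ(XA x B, (chart x B W).1)) (n : ℕ) (a : Fin n → ↥(RingHom.ker p.toAlgHom)) (g : Fin n → Γ(X, W.1)),
    y ∈ L.map (cres x B (hW.trans inf_le_left)) → cι₀ x B W y = M2.idealIncl I₀ m →
    y + ∑ l, cσ x B W (a l : B) * cι x B W (g l) ∈ L'.map (cres x B (hW.trans inf_le_right)) →
    s.1 ⟨W.1, hW⟩ m = I₀.subschemeι.app W.1 (∑ l, ThickAff3.str x W.1 (lam (a l)) * g l)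

variable {p} {x} {J}
variable {V V' : X.affineOpens} {L : Ideal Γ(XA x B, (chart x B V).1)} {L' : Ideal Γ(XA x B, (chart x B V').1)}

theorem IsObs.unique (hp : IsSemismallExt p) (hL : LiftP x p J V L) (hL' : LiftP x p J V' L')
    {lam : ↥(RingHom.ker p.toAlgHom) →ₗ[k] k} {s s' : M2.HomSec (ClSub.idealMod I₀) (ClSub.quotMod I₀) (V.1 ⊓ V'.1)}
    (hs : IsObs x p lam L L' s) (hs' : IsObs x p lam L L' s') : s = s' := by
  refine homSec_ext fun W hW m => ?_
  obtain ⟨y, hy, hyf, n, a, g, ha, hz⟩ := exists_decomp x hp (hL.res x (hW.trans inf_le_left))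
    (hL'.res x (hW.trans inf_le_right)) (incl_mem W m)
  rw [hs W hW m y n (fun l => ⟨a l, ha l⟩) g hy hyf hz, hs' W hW m y n (fun l => ⟨a l, ha l⟩) g hy hyf hz]

theorem IsObs.add {lam mu : ↥(RingHom.ker p.toAlgHom) →ₗ[k] k}
    {s s' : M2.HomSec (ClSub.idealMod I₀) (ClSub.quotMod I₀) (V.1 ⊓ V'.1)}
    (hs : IsObs x p lam L L' s) (hs' : IsObs x p mu L L' s') : IsObs x p (lam + mu) L L' (s + s') := by
  intro W hW m y n a g hy hyf hz
  show s.1 ⟨W.1, hW⟩ m + s'.1 ⟨W.1, hW⟩ m = _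
  rw [hs W hW m y n a g hy hyf hz, hs' W hW m y n a g hy hyf hz]
  refine (map_add (I₀.subschemeι.app W.1).hom _ _).symm.trans ?_
  congr 1
  rw [← Finset.sum_add_distrib]
  exact Finset.sum_congr rfl fun l _ => by rw [LinearMap.add_apply, map_add, add_mul]

theorem IsObs.zero : IsObs x p 0 L L' (0 : M2.HomSec (ClSub.idealMod I₀) (ClSub.quotMod I₀) (V.1 ⊓ V'.1)) := by
  intro W hW m y n a g hy hyf hz
  simp only [LinearMap.zero_apply, map_zero, zero_mul, Finset.sum_const_zero]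
  rfl

theorem IsObs.smul {lam : ↥(RingHom.ker p.toAlgHom) →ₗ[k] k} (c : k)
    {s : M2.HomSec (ClSub.idealMod I₀) (ClSub.quotMod I₀) (V.1 ⊓ V'.1)} (hs : IsObs x p lam L L' s)
    (s' : M2.HomSec (ClSub.idealMod I₀) (ClSub.quotMod I₀) (V.1 ⊓ V'.1))
    (hs' : ∀ (W : X.affineOpens) (hW : W.1 ≤ V.1 ⊓ V'.1) (m : Γ(ClSub.idealMod I₀, W.1)),
      s'.1 ⟨W.1, hW⟩ m = ThickAff3.str x W.1 c • s.1 ⟨W.1, hW⟩ m) :
    IsObs x p (c • lam) L L' s' := by
  intro W hW m y n a g hy hyf hz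
  rw [hs', hs W hW m y n a g hy hyf hz]
  refine (map_mul (I₀.subschemeι.app W.1).hom _ _).symm.trans ?_
  congr 1
  rw [Finset.mul_sum]
  exact Finset.sum_congr rfl fun l _ => by rw [LinearMap.smul_apply, smul_eq_mul, map_mul, mul_assoc]

theorem cπ_obs {Q : Art k k} (π : B ⟶ Q) {t : Q} (lam : ↥(RingHom.ker p.toAlgHom) →ₗ[k] k)
    (hπ : ∀ a : ↥(RingHom.ker p.toAlgHom), π (a : B) = algebraMap k _ (lam a) * t) (W : X.affineOpens)
    {n : ℕ} (a : Fin n → ↥(RingHom.ker p.toAlgHom)) (g : Fin n → Γ(X, W.1)) :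
    cπ x π W (∑ l, cσ x B W (a l : B) * cι x B W (g l)) =
      cσ x Q W t * cι x Q W (∑ l, ThickAff3.str x W.1 (lam (a l)) * g l) := by
  rw [map_sum, map_sum, Finset.mul_sum]
  refine Finset.sum_congr rfl fun l _ => ?_
  rw [map_mul, cπ_cσ, cπ_cι, show π.toAlgHom (a l : B) = _ from hπ (a l), map_mul, map_mul, cι_str]
  ring

section Cover

variable (p)

theorem cres_cπ {U W : X.affineOpens} (h : W.1 ≤ U.1) {Q : Art k k} (π : B ⟶ Q) (L : Ideal Γ(XA x B, (chart x B U).1)) :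
    (L.map (cπ x π U)).map (cres x Q h) = (L.map (cres x B h)).map (cπ x π W) := by
  rw [Ideal.map_map, Ideal.map_map]
  exact congrArg (fun φ => L.map φ) (RingHom.ext fun y => (cπ_cres x π h y).symm)

variable {p}

theorem exists_obs (hp : IsSemismallExt p) {n : ℕ} (V : Fin n → X.affineOpens)
    (L : ∀ i, Ideal Γ(XA x B, (chart x B (V i)).1)) (hL : ∀ i, LiftP x p J (V i) (L i))
    (lam : ↥(RingHom.ker p.toAlgHom) →ₗ[k] k) :
    ∃ s : ∀ i j, M2.HomSec (ClSub.idealMod I₀) (ClSub.quotMod I₀) ((V i).1 ⊓ (V j).1),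
      (∀ i j, IsObs x p lam (L i) (L j) (s i j)) ∧
      CubeField.IsCocycleAb ((CohFound.abF X).obj (M2.homMod (ClSub.idealMod I₀) (ClSub.quotMod I₀)))
        (fun i => (V i).1) (fun i j => s i j) := by
  by_cases hl : lam = 0
  · subst hl
    refine ⟨fun i j => 0, fun i j => IsObs.zero, fun i j l T hi hj hk => ?_⟩
    show CubeField.ab _ _ 0 + CubeField.ab _ _ 0 = CubeField.ab _ _ 0
    exact (congrArg₂ (· + ·) (map_zero _) (map_zero _)).trans ((add_zero _).trans (map_zero _).symm)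
  obtain ⟨t, hq, ht, hπ⟩ := exists_functional_step hp hl
  let π := quotMk B _ (kerIdeal_le_m p (LinearMap.ker lam))
  let q := quotFactor (kerIdeal_le_m p (LinearMap.ker lam)) p (kerIdeal_le p _)
  have hlift : ∀ i, LiftOn x q J hq ht (V i) ((L i).map (cπ x π (V i))) := fun i =>
    (liftOn_iff x q J hq ht (V i) _).2 ⟨((hL i).push x _ (kerIdeal_le_m p (LinearMap.ker lam)) (kerIdeal_le p _)).1, ((hL i).push x _ (kerIdeal_le_m p (LinearMap.ker lam)) (kerIdeal_le p _)).2⟩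
  choose s hs using fun i j => exists_diffSec x q J hq ht (hlift i) (hlift j)
  refine ⟨s, fun i j W hW m y N a g hy hyf hz => hs i j W hW m _ ⟨cπ x π W y, ?_, ?_, ?_⟩, ?_⟩
  · rw [cres_cπ]; exact Ideal.mem_map_of_mem _ hy
  · exact (cι₀_cπ x π W y).trans hyf
  · show cπ x π W y + cσ x _ W t * cι x _ W _ ∈ _
    rw [← cπ_obs π lam hπ W a g, ← map_add, cres_cπ]
    exact Ideal.mem_map_of_mem _ hz
  intro i j l T hi hj hk
  refine homSec_ext fun W hW m => ?_
  obtain ⟨g, hg⟩ := exists_diff (stepOf x q hq ht W) (liftOn_res x q J (hW.trans hi) hq ht (hlift i))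
    (liftOn_res x q J (hW.trans hj) hq ht (hlift j)) (incl_mem W m)
  obtain ⟨g', hg'⟩ := exists_diff (stepOf x q hq ht W) (liftOn_res x q J (hW.trans hj) hq ht (hlift j))
    (liftOn_res x q J (hW.trans hk) hq ht (hlift l)) (incl_mem W m)
  show (s i j).1 ⟨W.1, _⟩ m + (s j l).1 ⟨W.1, _⟩ m = (s i l).1 ⟨W.1, _⟩ m
  rw [hs i j W (le_inf (hW.trans hi) (hW.trans hj)) m g hg, hs j l W (le_inf (hW.trans hj) (hW.trans hk)) m g' hg',
    hs i l W (le_inf (hW.trans hi) (hW.trans hk)) m (g + g') (diff_trans (stepOf x q hq ht W)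
      (liftOn_res x q J (hW.trans hj) hq ht (hlift j)) (liftOn_res x q J (hW.trans hk) hq ht (hlift l)) hg hg')]
  exact (map_add (I₀.subschemeι.app W.1).hom g g').symm

/-- A functional with zero class lifts. -/
theorem exists_lift_functional [LocallyOfFiniteType x] (hp : IsSemismallExt p) {n : ℕ} (V : Fin n → X.affineOpens)
    (hcov : ⨆ i, (V i).1 = ⊤) (L : ∀ i, Ideal Γ(XA x B, (chart x B (V i)).1)) (hL : ∀ i, LiftP x p J (V i) (L i))
    (lam : ↥(RingHom.ker p.toAlgHom) →ₗ[k] k) (hl : lam ≠ 0)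
    (s : ∀ i j, M2.HomSec (ClSub.idealMod I₀) (ClSub.quotMod I₀) ((V i).1 ⊓ (V j).1))
    (hs : ∀ i j, IsObs x p lam (L i) (L j) (s i j))
    (h : ∀ i, ((CohFound.abF X).obj (M2.homMod (ClSub.idealMod I₀) (ClSub.quotMod I₀))).obj.obj (op (V i).1))
    (hh : ∀ i j, CubeField.ab ((CohFound.abF X).obj (M2.homMod (ClSub.idealMod I₀) (ClSub.quotMod I₀))) inf_le_left (h i) -
        CubeField.ab ((CohFound.abF X).obj (M2.homMod (ClSub.idealMod I₀) (ClSub.quotMod I₀))) inf_le_right (h j) = s i j) :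
    ∃ J', (ArtFun.localHilb X x I₀).map
      (quotFactor (kerIdeal_le_m p (LinearMap.ker lam)) p (kerIdeal_le p _)) J' = J := by
  obtain ⟨t, hq, ht, hπ⟩ := exists_functional_step hp hl
  let π := quotMk B _ (kerIdeal_le_m p (LinearMap.ker lam))
  let q := quotFactor (kerIdeal_le_m p (LinearMap.ker lam)) p (kerIdeal_le p _)
  refine exists_lift_of_boundary x q J hq V hcov ht (fun i => (L i).map (cπ x π (V i)))
    (fun i => (liftOn_iff x q J hq ht (V i) _).2 ⟨((hL i).push x _ (kerIdeal_le_m p (LinearMap.ker lam)) (kerIdeal_le p _)).1, ((hL i).push x _ (kerIdeal_le_m p (LinearMap.ker lam)) (kerIdeal_le p _)).2⟩) s ?_ h hh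
  intro i j W hW m g hg
  have hi := (hL i).res x (hW.trans inf_le_left)
  have hj := (hL j).res x (hW.trans inf_le_right)
  obtain ⟨y, hy, hyf, N, a, b, ha, hz⟩ := exists_decomp x hp hi hj (incl_mem W m)
  rw [hs i j W hW m y N (fun l => ⟨a l, ha l⟩) b hy hyf hz]
  refine app_eq_app (diff_unique (f := M2.idealIncl I₀ m) (stepOf x q hq ht W)
    ((liftOn_iff x q J hq ht W _).2 ⟨(hi.push x _ (kerIdeal_le_m p (LinearMap.ker lam)) (kerIdeal_le p _)).1, (hi.push x _ (kerIdeal_le_m p (LinearMap.ker lam)) (kerIdeal_le p _)).2⟩)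
    ((liftOn_iff x q J hq ht W _).2 ⟨(hj.push x _ (kerIdeal_le_m p (LinearMap.ker lam)) (kerIdeal_le p _)).1, (hj.push x _ (kerIdeal_le_m p (LinearMap.ker lam)) (kerIdeal_le p _)).2⟩) ?_ ?_)
  · refine ⟨cπ x π W y, Ideal.mem_map_of_mem _ hy, (cι₀_cπ x π W y).trans hyf, ?_⟩
    show cπ x π W y + cσ x _ W t * cι x _ W _ ∈ _
    rw [← cπ_obs π lam hπ W (fun l => ⟨a l, ha l⟩) b, ← map_add]
    exact Ideal.mem_map_of_mem _ hz
  · rwa [cres_cπ, cres_cπ] at hg

end Cover

theorem isClass_add {Y : TopCat.{u}} {F : CohTop.Ab Y} {ι : Type} {V : ι → TopologicalSpace.Opens Y}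
    {s s' : ∀ i j, F.obj.obj (op (V i ⊓ V j))} {c c' : CohFound.Hc F 1 (⊤ : TopologicalSpace.Opens Y)}
    (h : CubeField.IsClass F V s c) (h' : CubeField.IsClass F V s' c') :
    CubeField.IsClass F V (fun i j => s i j + s' i j) (c + c') := by
  obtain ⟨a, q, ha, hq, rfl⟩ := h
  obtain ⟨a', q', ha', hq', rfl⟩ := h'
  refine ⟨fun i => a i + a' i, q + q', fun i j => ?_, fun i => ?_, ?_⟩
  · rw [map_add, map_add, map_add, ← ha, ← ha']; abel
  · rw [map_add, map_add, hq, hq']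
  · exact ((congrArg _ (map_add _ q q')).trans (map_add _ _ _)).symm

/-- A map which is linear after transport along an additive equivalence. -/
def linOfAdd {R V H G : Type*} [Semiring R] [AddCommMonoid V] [Module R V] [AddCommMonoid H] [Module R H]
    [AddCommMonoid G] (e : H ≃+ G) (c : V → G) (hadd : ∀ a b, c (a + b) = c a + c b)
    (hsmul : ∀ (r : R) a, c (r • a) = e (r • e.symm (c a))) : V →ₗ[R] H where
  toFun a := e.symm (c a)
  map_add' a b := by rw [hadd, map_add]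
  map_smul' r a := by rw [hsmul, AddEquiv.symm_apply_apply, RingHom.id_apply]

theorem linOfAdd_apply {R V H G : Type*} [Semiring R] [AddCommMonoid V] [Module R V] [AddCommMonoid H] [Module R H]
    [AddCommMonoid G] (e : H ≃+ G) (c : V → G) (hadd : ∀ a b, c (a + b) = c a + c b)
    (hsmul : ∀ (r : R) a, c (r • a) = e (r • e.symm (c a))) (a : V) : linOfAdd e c hadd hsmul a = e.symm (c a) := rfl

theorem isClass_unique {F : CohTop.Ab (CohFound.sp X)} {ι : Type} (V : ι → X.Opens) (hcov : ⨆ i, V i = ⊤)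
    {s : ∀ i j, F.obj.obj (op (V i ⊓ V j))} {a b : CohFound.Hc F 1 (⊤ : X.Opens)}
    (ha : CubeField.IsClass F V s a) (hb : CubeField.IsClass F V s b) : a = b := by
  have h := ha.eq_mp F V hcov hb (𝟙 F) (fun i => 0) fun i j => by
    rw [map_zero, map_zero, sub_zero, add_zero]; rfl
  rwa [CohFound.mp_id] at h

theorem smul_hhExt [X.Over (Spec (CommRingCat.of k))] (N : X.Modules) (r : k) (c : CohFound.Hc ((CohFound.abF X).obj N) 1 (⊤ : X.Opens)) :
    CohFound.hhExt N 1 (r • (CohFound.hhExt N 1).symm c) =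
      CohFound.mp (Coh.smulAb N (Coh.toGlobal (X ↘ Spec (CommRingCat.of k)) r)) 1 ⊤ c :=
  (CohFound.hExt_map (Coh.smulAb N (Coh.toGlobal (X ↘ Spec (CommRingCat.of k)) r)) 1
    ((CohFound.hhExt N 1).symm c)).trans
    (congrArg (CohFound.mp (Coh.smulAb N (Coh.toGlobal (X ↘ Spec (CommRingCat.of k)) r)) 1 ⊤)
      ((CohFound.hhExt N 1).apply_symm_apply c))

theorem IsObs.smul_global [X.Over (Spec (CommRingCat.of k))] (hx : x = X ↘ Spec (CommRingCat.of k))
    {lam : ↥(RingHom.ker p.toAlgHom) →ₗ[k] k} (r : k)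
    {s : M2.HomSec (ClSub.idealMod I₀) (ClSub.quotMod I₀) (V.1 ⊓ V'.1)} (hs : IsObs x p lam L L' s) :
    IsObs x p (r • lam) L L' ((Coh.smulAb (M2.homMod (ClSub.idealMod I₀) (ClSub.quotMod I₀))
      (Coh.toGlobal (X ↘ Spec (CommRingCat.of k)) r)).hom.app (op (V.1 ⊓ V'.1)) s) := by
  refine hs.smul r _ fun W hW m => ?_
  let r' : Coh.Γtop X := Coh.toGlobal (X ↘ Spec (CommRingCat.of k)) r
  show ((X.presheaf.map (homOfLE hW).op) (X.presheaf.map (homOfLE le_top).op r') : Γ(X, W.1)) •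
    s.1 ⟨W.1, hW⟩ m = _
  rw [← ConcreteCategory.comp_apply, ← X.presheaf.map_comp]
  refine congrArg (fun z : Γ(X, W.1) => z • s.1 ⟨W.1, hW⟩ m) ?_
  rw [show r' = Coh.toGlobal x r by rw [hx]]
  rw [HilbRS3.toGlobal_eq]
  exact ThickAff3.res_str x le_top r

/-- Obstructions to lifting along a semismall extension lie in a space of dimension `h¹`. -/
theorem exists_obstructions [LocallyOfFiniteType x] [X.Over (Spec (CommRingCat.of k))]
    (hx : x = X ↘ Spec (CommRingCat.of k)) (hp : IsSemismallExt p) {n : ℕ} (V : Fin n → X.affineOpens)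
    (hcov : ⨆ i, (V i).1 = ⊤) (L : ∀ i, Ideal Γ(XA x B, (chart x B (V i)).1)) (hL : ∀ i, LiftP x p J (V i) (L i))
    [Module.Finite k (Coh.HH X (M2.homMod (ClSub.idealMod I₀) (ClSub.quotMod I₀)) 1)] :
    ∃ W : Submodule k ↥(RingHom.ker p.toAlgHom),
      Module.finrank k W ≤ Module.finrank k (Coh.HH X (M2.homMod (ClSub.idealMod I₀) (ClSub.quotMod I₀)) 1) ∧
      ∀ lam : ↥(RingHom.ker p.toAlgHom) →ₗ[k] k, lam ≠ 0 → W ≤ LinearMap.ker lam → ∃ J', (ArtFun.localHilb X x I₀).map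
        (quotFactor (kerIdeal_le_m p (LinearMap.ker lam)) p (kerIdeal_le p _)) J' = J := by
  let N := M2.homMod (ClSub.idealMod I₀) (ClSub.quotMod I₀)
  let F := (CohFound.abF X).obj N
  choose s hs hcoc using exists_obs hp V L hL
  choose c hc using fun lam => CubeField.exists_isClass F (fun i => (V i).1) hcov _ (hcoc lam)
  haveI : FiniteDimensional k ↥(RingHom.ker p.toAlgHom) := HilbRS3.finite_ker p hp
  have hadd : ∀ lam mu, c (lam + mu) = c lam + c mu := fun lam mu => by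
    refine isClass_unique _ hcov (hc _) ?_
    have e : s (lam + mu) = fun i j => s lam i j + s mu i j := by
      funext i j
      exact IsObs.unique hp (hL i) (hL j) (hs _ i j) ((hs lam i j).add (hs mu i j))
    exact e ▸ isClass_add (hc lam) (hc mu)
  have hsmul : ∀ (r : k) lam, c (r • lam) = CohFound.hhExt N 1 (r • (CohFound.hhExt N 1).symm (c lam)) := fun r lam => by
    refine Eq.trans ?_ (smul_hhExt N r (c lam)).symm
    refine (hc (r • lam)).eq_mp F (fun i => (V i).1) hcov (hc lam) (Coh.smulAb N _) (fun i => 0) fun i j => ?_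
    rw [map_zero, map_zero, sub_zero, add_zero]
    exact IsObs.unique hp (hL i) (hL j) (hs _ i j) ((hs lam i j).smul_global hx r)
  let Φ : Module.Dual k ↥(RingHom.ker p.toAlgHom) →ₗ[k] Coh.HH X N 1 := linOfAdd (CohFound.hhExt N 1) c hadd hsmul
  refine ⟨Submodule.dualCoannihilator (LinearMap.ker Φ), ?_, fun lam hl hW => ?_⟩
  · have h1 := Subspace.finrank_add_finrank_dualCoannihilator_eq (LinearMap.ker Φ)
    have h2 := LinearMap.finrank_range_add_finrank_ker Φ
    rw [Subspace.dual_finrank_eq] at h2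
    have h3 : Module.finrank k (LinearMap.range Φ) ≤
      Module.finrank k (Coh.HH X (M2.homMod (ClSub.idealMod I₀) (ClSub.quotMod I₀)) 1) := Submodule.finrank_le _
    omega
  · have hmem : lam ∈ LinearMap.ker Φ := by
      rw [← Subspace.dualCoannihilator_dualAnnihilator_eq (W := LinearMap.ker Φ), Submodule.mem_dualAnnihilator]
      exact fun w hw => hW hw
    rw [LinearMap.mem_ker, linOfAdd_apply] at hmem
    have hc0 : c lam = 0 := (AddEquiv.map_eq_zero_iff (CohFound.hhExt N 1).symm).1 hmem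
    have h := hc lam
    rw [hc0] at h
    obtain ⟨h', hh⟩ := h.eq_boundary
    exact exists_lift_functional hp V hcov L hL lam hl (s lam) (hs lam) h' hh

end Groth.Agent.HilbObs3
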