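import Groth.Agent.Lib.TensorMod.Dual
import Groth.Agent.Lib.TensorMod.PullTensor
import Groth.Prelude.Def_DCoh4

/-!
# The sheaf of homomorphisms is the right adjoint of the tensor product
-/

set_option autoImplicit false
set_option linter.style.haveILetI false
set_option backward.isDefEq.respectTransparency.types false

universe u

open CategoryTheory CategoryTheory.Limits AlgebraicGeometry Opposite

namespace Groth.Agent.HilbObs3

open Groth.Agent M2

variable {X : Scheme.{u}} (A : X.Modules)

theorem res_res' (M : X.Modules) {U V W : X.Opens} (h : V ≤ U) (h' : W ≤ V) (s : Γ(M, U)) :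
    res M h' (res M h s) = res M (h'.trans h) s :=
  rs_rs (pm M) h h' s

/-- Currying on a section. -/
noncomputable def curryFam {M N : X.Modules} (φ : CohB1.tensorMod A M ⟶ N) {U : X.Opens} (m : Γ(M, U)) :
    HomSec A N U :=
  ⟨fun V =>
    { toFun := fun c => φ.app V.1 (tsec A M c (res M V.2 m))
      map_add' := fun c c' => by rw [tsec_add_left, map_add]
      map_smul' := fun r c => by rw [tsec_smul_left, Scheme.Modules.Hom.app_smul]; rfl },
   fun V V' h c => by
    show φ.app V'.1 (tsec A M (res A h c) (res M V'.2 m)) = res N h (φ.app V.1 (tsec A M c (res M V.2 m)))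
    rw [← res_res' M V.2 h m, ← res_tsec]
    exact M1.app_mres φ h _⟩

theorem curryFam_apply {M N : X.Modules} (φ : CohB1.tensorMod A M ⟶ N) {U : X.Opens} (m : Γ(M, U))
    (V : {V : X.Opens // V ≤ U}) (c : Γ(A, V.1)) :
    (curryFam A φ m).1 V c = φ.app V.1 (tsec A M c (res M V.2 m)) := rfl

/-- Currying. -/
noncomputable def curry {M N : X.Modules} (φ : CohB1.tensorMod A M ⟶ N) : M ⟶ homMod A N where
  val :=
    { app := fun U => ModuleCat.ofHom (X := M.val.obj U) (Y := (homMod A N).val.obj U)
        { toFun := fun m => (curryFam A φ (U := U.unop) m : HomSec A N U.unop)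
          map_add' := fun m m' => by
            refine Subtype.ext (funext fun V => LinearMap.ext fun c => ?_)
            show φ.app V.1 (tsec A M c (res M V.2 (m + m'))) =
              φ.app V.1 (tsec A M c (res M V.2 m)) + φ.app V.1 (tsec A M c (res M V.2 m'))
            rw [show res M V.2 (m + m') = res M V.2 m + res M V.2 m' from map_add _ _ _, tsec_add_right, map_add]
          map_smul' := fun r m => by
            refine Subtype.ext (funext fun V => LinearMap.ext fun c => ?_)
            show φ.app V.1 (tsec A M c (res M V.2 (r • m))) =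
              X.presheaf.map (homOfLE V.2).op r • φ.app V.1 (tsec A M c (res M V.2 m))
            rw [show res M V.2 (r • m) = X.presheaf.map (homOfLE V.2).op r • res M V.2 m from
              Scheme.Modules.map_smul M _ _ _, tsec_smul_right, Scheme.Modules.Hom.app_smul] }
      naturality := fun {U V} i => by
        refine ModuleCat.hom_ext (LinearMap.ext fun m => Subtype.ext (funext fun W => LinearMap.ext fun c => ?_))
        show φ.app W.1 (tsec A M c (res M W.2 (res M (leOfHom i.unop) m))) =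
          φ.app W.1 (tsec A M c (res M (W.2.trans (leOfHom i.unop)) m))
        rw [res_res'] }

/-- The data of uncurrying. -/
noncomputable def uncurryBiMap {M N : X.Modules} (ψ : M ⟶ homMod A N) : BiMap A M N where
  f U c m := (homSecOf A N (ψ.app U m)).1 ⟨U, le_rfl⟩ c
  add_left U c c' m := map_add _ _ _
  smul_left U r c m := map_smul _ _ _
  add_right U c m m' := by rw [map_add]; rfl
  smul_right U r c m := by
    rw [Scheme.Modules.Hom.app_smul]
    show X.presheaf.map (homOfLE le_rfl).op r • (homSecOf A N (ψ.app U m)).1 ⟨U, le_rfl⟩ c = _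
    rw [show (homOfLE (le_refl U)).op = 𝟙 _ from rfl, X.presheaf.map_id]
    rfl
  compat {U V} h c m := by
    show (homSecOf A N (ψ.app V (M1.mres M h m))).1 ⟨V, le_rfl⟩ (res A h c) = _
    rw [M1.app_mres]
    exact (homSecOf A N (ψ.app U m)).2 ⟨U, le_rfl⟩ ⟨V, h⟩ h c

/-- `Hom(A ⊗ M, N) = Hom(M, 𝓗om(A, N))`. -/
noncomputable def homEquivT (M N : X.Modules) : (CohB1.tensorMod A M ⟶ N) ≃ (M ⟶ homMod A N) where
  toFun := curry A
  invFun ψ := mkHom (uncurryBiMap A ψ)
  left_inv φ := by
    refine tensorMod_hom_ext fun U c m => ?_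
    rw [mkHom_tsec]
    show φ.app U (tsec A M c (res M (le_refl U) m)) = _
    rw [show res M (le_refl U) m = m from M1.mres_id M le_rfl m]
  right_inv ψ := by
    refine Scheme.Modules.hom_ext _ _ fun U => ?_
    ext m
    refine Subtype.ext (funext fun V => LinearMap.ext fun c => ?_)
    show (mkHom (uncurryBiMap A ψ)).app V.1 (tsec A M c (res M V.2 m)) = (homSecOf A N (ψ.app U m)).1 V c
    rw [mkHom_tsec]
    show (homSecOf A N (ψ.app V.1 (M1.mres M V.2 m))).1 ⟨V.1, le_rfl⟩ c = _
    rw [M1.app_mres]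
    rfl

theorem homEquivT_natural {M M' : X.Modules} (N : X.Modules) (g : M' ⟶ M) (φ : CohB1.tensorMod A M ⟶ N) :
    homEquivT A M' N (tensorMap (𝟙 A) g ≫ φ) = g ≫ homEquivT A M N φ := by
  refine Scheme.Modules.hom_ext _ _ fun U => ?_
  ext m
  refine Subtype.ext (funext fun V => LinearMap.ext fun c => ?_)
  show φ.app V.1 ((tensorMap (𝟙 A) g).app V.1 (tsec A M' c (res M' V.2 m))) =
    φ.app V.1 (tsec A M c (res M V.2 (g.app U m)))
  rw [tensorMap_tsec]
  exact congrArg (fun t => φ.app V.1 (tsec A M c t)) (M1.app_mres g V.2 m)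

theorem tensorBi_map {N N' : X.Modules} (g : N ⟶ N') :
    ((DCoh.tensorBi (X := X)).obj A).map g = tensorMap (𝟙 A) g := by
  unfold tensorMap
  rw [CategoryTheory.Functor.map_id]
  exact congrArg (shf X).map (MonoidalCategory.id_tensorHom (C := PM X.presheaf) (pm A) ((pmF X).map g)).symm

/-- Yoneda. -/
theorem nonempty_iso_of_equiv {P Q : X.Modules} (φ : ∀ M : X.Modules, (M ⟶ P) ≃ (M ⟶ Q))
    (hφ : ∀ {M M' : X.Modules} (g : M' ⟶ M) (f : M ⟶ P), φ M' (g ≫ f) = g ≫ φ M f) : Nonempty (P ≅ Q) := by
  refine ⟨⟨φ P (𝟙 P), (φ Q).symm (𝟙 Q), ?_, ?_⟩⟩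
  · refine (φ P).injective ?_
    rw [hφ, Equiv.apply_symm_apply, Category.comp_id]
  · rw [← hφ, Category.comp_id, Equiv.apply_symm_apply]

/-- The chosen right adjoint is the sheaf of homomorphisms. -/
theorem nonempty_sheafHom_iso [DCoh.HasSheafHom A] (N : X.Modules) :
    Nonempty ((DCoh.sheafHom A).obj N ≅ homMod A N) := by
  let e : ∀ M, (M ⟶ (DCoh.sheafHom A).obj N) ≃ (CohB1.tensorMod A M ⟶ N) := fun M =>
    ((DCoh.sheafHomAdj A).homEquiv M N).symm
  refine nonempty_iso_of_equiv (fun M => (e M).trans (homEquivT A M N)) fun {M M'} g f => ?_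
  show homEquivT A M' N (e M' (g ≫ f)) = g ≫ homEquivT A M N (e M f)
  rw [← homEquivT_natural, ← tensorBi_map]
  exact congrArg _ ((DCoh.sheafHomAdj A).homEquiv_naturality_left_symm g f)

variable {Y : Scheme.{u}} (f : Y ⟶ X)

theorem pushLax_natural {M M' N N' : Y.Modules} (a : M ⟶ M') (b : N ⟶ N') :
    tensorMap ((Scheme.Modules.pushforward f).map a) ((Scheme.Modules.pushforward f).map b) ≫ pushLax f M' N' =
      pushLax f M N ≫ (Scheme.Modules.pushforward f).map (tensorMap a b) := by
  refine tensorMod_hom_ext fun U s t => ?_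
  show (pushLax f M' N').app U ((tensorMap _ _).app U (tsec _ _ s t)) =
    (tensorMap a b).app (f ⁻¹ᵁ U) ((pushLax f M N).app U (tsec _ _ s t))
  rw [tensorMap_tsec]
  refine (mkHom_tsec (laxBiMap f M' N') _ _).trans ?_
  refine Eq.trans ?_ (congrArg ((tensorMap a b).app (f ⁻¹ᵁ U)) (mkHom_tsec (laxBiMap f M N) s t)).symm
  exact (tensorMap_tsec (U := f ⁻¹ᵁ U) a b s t).symm

theorem pullCmp_natural {M M' : X.Modules} (g : M' ⟶ M) :
    (Scheme.Modules.pullback f).map (tensorMap (𝟙 A) g) ≫ pullCmp f A M =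
      pullCmp f A M' ≫ tensorMap (𝟙 _) ((Scheme.Modules.pullback f).map g) := by
  unfold pullCmp
  rw [← Adjunction.homEquiv_naturality_left_symm, ← Adjunction.homEquiv_naturality_right_symm]
  refine congrArg _ ?_
  rw [Category.assoc, ← pushLax_natural, ← Category.assoc, ← Category.assoc, ← tensorMap_comp, ← tensorMap_comp]
  congr 2
  exact (Scheme.Modules.pullbackPushforwardAdjunction f).unit.naturality g

/-- Direct images of sheaves of homomorphisms out of a pullback. -/
theorem nonempty_push_sheafHom_iso [DCoh.HasSheafHom ((Scheme.Modules.pullback f).obj A)] (N : Y.Modules) :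
    Nonempty ((Scheme.Modules.pushforward f).obj ((DCoh.sheafHom ((Scheme.Modules.pullback f).obj A)).obj N) ≅
      homMod A ((Scheme.Modules.pushforward f).obj N)) := by
  let adj := Scheme.Modules.pullbackPushforwardAdjunction f
  let C := (Scheme.Modules.pullback f).obj A
  let H := (DCoh.sheafHom C).obj N
  let e₁ : ∀ M, (M ⟶ (Scheme.Modules.pushforward f).obj H) ≃
      (CohB1.tensorMod C ((Scheme.Modules.pullback f).obj M) ⟶ N) := fun M =>
    (adj.homEquiv M H).symm.trans ((DCoh.sheafHomAdj C).homEquiv _ N).symm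
  let e₂ : ∀ M, (CohB1.tensorMod C ((Scheme.Modules.pullback f).obj M) ⟶ N) ≃
      (CohB1.tensorMod A M ⟶ (Scheme.Modules.pushforward f).obj N) := fun M =>
    ((pullTensorIso f A M).symm.homCongr (Iso.refl N)).trans (adj.homEquiv _ N)
  refine nonempty_iso_of_equiv (fun M => ((e₁ M).trans (e₂ M)).trans (homEquivT A M _)) fun {M M'} g φ => ?_
  show homEquivT A M' _ (e₂ M' (e₁ M' (g ≫ φ))) = g ≫ homEquivT A M _ (e₂ M (e₁ M φ))
  rw [← homEquivT_natural]
  refine congrArg _ ?_
  have h₁ : e₁ M' (g ≫ φ) = tensorMap (𝟙 C) ((Scheme.Modules.pullback f).map g) ≫ e₁ M φ := by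
    rw [← tensorBi_map]
    exact (congrArg _ (adj.homEquiv_naturality_left_symm g φ)).trans
      ((DCoh.sheafHomAdj C).homEquiv_naturality_left_symm _ _)
  rw [h₁]
  show adj.homEquiv _ N ((pullTensorIso f A M').hom ≫ (_ ≫ e₁ M φ) ≫ 𝟙 N) =
    tensorMap (𝟙 A) g ≫ adj.homEquiv _ N ((pullTensorIso f A M).hom ≫ e₁ M φ ≫ 𝟙 N)
  rw [← Adjunction.homEquiv_naturality_left]
  refine congrArg _ ?_
  rw [Category.comp_id, Category.comp_id, ← Category.assoc, ← Category.assoc]
  exact congrArg (· ≫ e₁ M φ) (pullCmp_natural A f g).symm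

end Groth.Agent.HilbObs3
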