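import Groth.Agent.Lib.HilbObs3.HomAdj
import Groth.Agent.Lib.InjMod.HomFlasque
import Groth.Agent.Lib.HilbRS3.H0Hom
import Groth.Agent.Lib.CohFound.ModFlasque
import Groth.Agent.Lib.CohFound.DimShift
import Groth.Agent.Lib.HomShH7.Basic
import Groth.Agent.Lib.AffStratVan4.Support
import Groth.Agent.Lib.CurveCoh17.Twist
import Groth.Agent.Lib.AffStratVan4.Main
import Groth.Agent.Lib.ModM1.Pull

/-!
# Vanishing of the first cohomology of the sheaf of homomorphisms
-/

set_option autoImplicit false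
set_option linter.style.haveILetI false
set_option backward.isDefEq.respectTransparency.types false

universe u

open CategoryTheory CategoryTheory.Limits AlgebraicGeometry Opposite

namespace Groth.Agent.HilbObs3

open Groth.Agent

variable {Y : Scheme.{u}}

/-- The tensor product with a module is a left adjoint. -/
theorem hasSheafHom (A : Y.Modules) : DCoh.HasSheafHom A :=
  Functor.isLeftAdjoint_of_rightAdjointObjIsDefined_eq_top (funext fun N => eq_true
    (Functor.RepresentableBy.isRepresentable (Y := M2.homMod A N)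
      { homEquiv := fun {M} => (homEquivT A M N).symm
        homEquiv_comp := fun {M M'} g f => by
          show _ = ((DCoh.tensorBi (X := Y)).obj A).map g ≫ (homEquivT A M' N).symm f
          rw [tensorBi_map]
          refine (homEquivT A M N).symm_apply_eq.2 (Eq.symm ?_)
          exact (homEquivT_natural A N g _).trans (congrArg (g ≫ ·) (Equiv.apply_symm_apply _ f)) }))

/-- `H¹(𝓗om(C, N))` is a subgroup of `Ext¹(C, N)`. -/
theorem subsingleton_HH_one_sheafHom [HasExt.{u} Y.Modules] (C N : Y.Modules) [DCoh.HasSheafHom C]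
    (h : Subsingleton (Abelian.Ext.{u} C N 1)) :
    Subsingleton (Coh.HH Y ((DCoh.sheafHom C).obj N) 1) := by
  classical
  rw [CohFound.subsingleton_HH_iff]
  let H := DCoh.sheafHom C
  haveI hra : H.IsRightAdjoint := (DCoh.sheafHomAdj C).isRightAdjoint
  let S₀ := ShortComplex.mk (Injective.ι N) (cokernel.π (Injective.ι N)) (cokernel.condition _)
  have hS₀ : S₀.ShortExact :=
    { exact := ShortComplex.exact_of_g_is_cokernel _ (cokernelIsCokernel _) }
  haveI : H.PreservesZeroMorphisms := inferInstance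
  let G := H ⋙ CohFound.abF Y
  haveI : Mono S₀.f := hS₀.mono_f
  haveI : Mono (G.map S₀.f) := inferInstanceAs (Mono ((CohFound.abF Y).map (H.map S₀.f)))
  let S := ShortComplex.mk (G.map S₀.f) (cokernel.π (G.map S₀.f)) (cokernel.condition _)
  have hS : S.ShortExact := { exact := ShortComplex.exact_of_g_is_cokernel _ (cokernelIsCokernel _) }
  have hz : G.map S₀.f ≫ G.map S₀.g = 0 := by rw [← G.map_comp, S₀.zero, G.map_zero]
  have hex : (ShortComplex.mk (G.map S₀.f) (G.map S₀.g) hz).Exact :=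
    hS₀.exact.map_of_mono_of_preservesKernel G inferInstance inferInstance
  let c : S.X₃ ⟶ G.obj S₀.X₃ := cokernel.desc (G.map S₀.f) (G.map S₀.g) hz
  haveI : Mono c := hex.mono_cokernelDesc
  have hc : ∀ t, c.hom.app (op ⊤) (S.g.hom.app (op ⊤) t) = (G.map S₀.g).hom.app (op ⊤) t := fun t =>
    ConcreteCategory.congr_hom (congrArg (fun φ => φ.hom.app (op (⊤ : Y.Opens))) (cokernel.π_desc (G.map S₀.f) (G.map S₀.g) hz)) t
  haveI : Injective S₀.X₂ := inferInstanceAs (Injective (Injective.under N))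
  haveI : TopCat.Sheaf.IsFlasque S.X₂ := CohFound.isFlasque_mk _ fun U V hUV s =>
    InjMod.surjective_mres_sheafHom C S₀.X₂ hUV s
  have hsurj : Function.Surjective (S.g.hom.app (op (⊤ : Y.Opens))) := by
    intro q
    let adj := DCoh.sheafHomAdj C
    let φ := (M2.tensorRUnit C).inv ≫ (adj.homEquiv (Coh.structureModule Y) S₀.X₃).symm
      (M1.secHom (c.hom.app (op ⊤) q : Γ(H.obj S₀.X₃, ⊤)))
    obtain ⟨ψ, hψ⟩ : ∃ ψ : C ⟶ S₀.X₂, ψ ≫ S₀.g = φ := by
      obtain ⟨x, hx⟩ := Abelian.Ext.covariant_sequence_exact₃ C hS₀ (Abelian.Ext.mk₀ φ) rfl (Subsingleton.elim _ _)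
      obtain ⟨ψ, rfl⟩ := (Abelian.Ext.mk₀_bijective C S₀.X₂).2 x
      rw [Abelian.Ext.mk₀_comp_mk₀] at hx
      exact ⟨ψ, (Abelian.Ext.mk₀_bijective C S₀.X₃).1 hx⟩
    let K := adj.homEquiv (Coh.structureModule Y) S₀.X₂ ((M2.tensorRUnit C).hom ≫ ψ)
    refine ⟨(K.app ⊤ (M1.one ⊤) : Γ(H.obj S₀.X₂, ⊤)), CohFound.injective_app_of_mono c ⊤ ?_⟩
    rw [hc]
    have hK : K ≫ H.map S₀.g = M1.secHom (c.hom.app (op ⊤) q : Γ(H.obj S₀.X₃, ⊤)) := by
      refine (adj.homEquiv_naturality_right _ _).symm.trans ?_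
      rw [Category.assoc, hψ]
      refine (congrArg (adj.homEquiv _ _) ?_).trans (Equiv.apply_symm_apply _ _)
      exact (M2.tensorRUnit C).hom_inv_id_assoc _
    show (H.map S₀.g).app ⊤ (K.app ⊤ (M1.one ⊤)) = _
    rw [show (H.map S₀.g).app ⊤ (K.app ⊤ (M1.one ⊤)) = (K ≫ H.map S₀.g).app ⊤ (M1.one ⊤) from rfl, hK,
      M1.secHom_app_one]
  refine subsingleton_of_forall_eq 0 fun x => ?_
  obtain ⟨z, rfl⟩ := CohFound.exact₁ hS 0 ⊤ x
    (@Subsingleton.elim _ (CohFound.subsingleton_hc_of_isFlasque S.X₂ 0 ⊤) _ _)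
  exact CohFound.delta_eq_zero_of_surjective hS ⊤ hsurj z

variable {X : Scheme.{u}} (I₀ : X.IdealSheafData) [IsNoetherian X]

/-- The cohomology of `𝓗om(I, O_Z)` is that of the normal sheaf. -/
theorem subsingleton_HH_homMod [DCoh.HasSheafHom (Omega.conormal I₀.subschemeι)]
    (h : Subsingleton (Coh.HH I₀.subscheme ((DCoh.sheafHom (Omega.conormal I₀.subschemeι)).obj
      (Coh.structureModule I₀.subscheme)) 1)) :
    Subsingleton (Coh.HH X (M2.homMod (ClSub.idealMod I₀) (ClSub.quotMod I₀)) 1) := by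
  obtain ⟨e⟩ := @nonempty_push_sheafHom_iso X (ClSub.idealMod I₀.subschemeι.ker) I₀.subscheme I₀.subschemeι
    ‹_› (Coh.structureModule I₀.subscheme)
  have hq : Coh.IsQCoh ((DCoh.sheafHom (Omega.conormal I₀.subschemeι)).obj (Coh.structureModule I₀.subscheme)) := by
    obtain ⟨e'⟩ := nonempty_sheafHom_iso (Omega.conormal I₀.subschemeι) (Coh.structureModule I₀.subscheme)
    refine (SheafOfModules.isQuasicoherent I₀.subscheme.ringCatSheaf).prop_of_iso (show _ ≅ _ from e'.symm)
      (HomShH7.isQCoh_homMod ?_ (M1.isQCoh_structureModule _))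
    exact M1.isFP_pullback _ (M1.isFP_of_isCoh (CurveCoh17.isCoh_idealMod _))
  have h2 := AffStratVan4.subsingleton_HH_push I₀.subschemeι _ hq 1 h
  have e2 : M2.homMod (ClSub.idealMod I₀.subschemeι.ker)
      ((Scheme.Modules.pushforward I₀.subschemeι).obj (Coh.structureModule I₀.subscheme)) ≅
      M2.homMod (ClSub.idealMod I₀) (ClSub.quotMod I₀) :=
    eqToIso (by rw [Scheme.IdealSheafData.ker_subschemeι])
  exact AffStratVan4.subsingleton_HH_congr (e ≪≫ e2) 1 h2

end Groth.Agent.HilbObs3
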