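import Groth.Agent.Lib.HilbObs3.Chart
import Groth.Agent.Lib.HilbObs3.IdealGlue
import Groth.Agent.Lib.CubeField.H1
import Groth.Agent.Lib.TensorMod.Dual

/-!
# Local lifts glue when the cohomology of `Hom(I, O_Y)` vanishes in degree one
-/

set_option autoImplicit false
set_option linter.style.haveILetI false
set_option backward.isDefEq.respectTransparency.types false

universe u

open CategoryTheory CategoryTheory.Limits AlgebraicGeometry IsLocalRing Opposite

namespace Groth.Agent.HilbObs3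

open ArtFun ArtFun.Art HilbRS3

section HomSec

variable {X : Scheme.{u}} {M N : X.Modules}

theorem homSec_ext {U : X.Opens} {φ ψ : M2.HomSec M N U}
    (h : ∀ (W : X.affineOpens) (hW : W.1 ≤ U) (s : Γ(M, W.1)), φ.1 ⟨W.1, hW⟩ s = ψ.1 ⟨W.1, hW⟩ s) : φ = ψ := by
  refine Subtype.ext (funext fun V => LinearMap.ext fun s => M1.section_ext _ _ fun q hq => ?_)
  obtain ⟨W, -, hqW, hWV⟩ := KoszShH13.isAffBasis_top V.1 q hq
  rw [← M1.germ_mres N hWV hqW, ← M1.germ_mres N hWV hqW]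
  refine congrArg _ ?_
  show M2.res N hWV _ = M2.res N hWV _
  rw [← φ.2 V ⟨W.1, hWV.trans V.2⟩ hWV s, ← ψ.2 V ⟨W.1, hWV.trans V.2⟩ hWV s, h]

theorem exists_homSec {U : X.Opens} (f : ∀ W : X.affineOpens, W.1 ≤ U → (Γ(M, W.1) →+ Γ(N, W.1)))
    (hsmul : ∀ W hW (r : Γ(X, W.1)) m, f W hW (r • m) = r • f W hW m)
    (hres : ∀ V hV W hW (h : W.1 ≤ V.1) m, M1.mres N h (f V hV m) = f W hW (M1.mres M h m)) :
    ∃ φ : M2.HomSec M N U, ∀ W hW m, φ.1 ⟨W.1, hW⟩ m = f W hW m := by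
  classical
  have huniq : ∀ (V : X.Opens) (t t' : Γ(N, V)),
      (∀ (W : X.affineOpens) (h : W.1 ≤ V), M1.mres N h t = M1.mres N h t') → t = t' := fun V t t' h =>
    M1.section_ext _ _ fun q hq => by
      obtain ⟨W, -, hqW, hWV⟩ := KoszShH13.isAffBasis_top V q hq
      rw [← M1.germ_mres N hWV hqW, ← M1.germ_mres N hWV hqW, h W hWV]
  have hex : ∀ (V : {V : X.Opens // V ≤ U}) (s : Γ(M, V.1)), ∃ t : Γ(N, V.1),
      ∀ (W : X.affineOpens) (h : W.1 ≤ V.1), M1.mres N h t = f W (h.trans V.2) (M1.mres M h s) := by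
    intro V s
    obtain ⟨t, ht, -⟩ := TopCat.Sheaf.existsUnique_gluing' ⟨N.presheaf, N.isSheaf⟩
      (fun W : {W : X.affineOpens // W.1 ≤ V.1} => W.1.1) V.1 (fun W => homOfLE W.2)
      (fun q hq => by
        obtain ⟨W, -, hqW, hWV⟩ := KoszShH13.isAffBasis_top V.1 q hq
        exact TopologicalSpace.Opens.mem_iSup.2 ⟨⟨W, hWV⟩, hqW⟩)
      (fun W => f W.1 (W.2.trans V.2) (M1.mres M W.2 s)) (fun W W' => by
        refine huniq _ _ _ fun T hT => ?_
        show M1.mres N hT (M1.mres N inf_le_left (f W.1 _ _)) = M1.mres N hT (M1.mres N inf_le_right (f W'.1 _ _))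
        rw [M1.mres_mres, M1.mres_mres, hres W.1 _ T ((hT.trans inf_le_left).trans (W.2.trans V.2)),
          hres W'.1 _ T ((hT.trans inf_le_left).trans (W.2.trans V.2)), M1.mres_mres, M1.mres_mres])
    exact ⟨t, fun W h => ht ⟨W, h⟩⟩
  choose T hT using hex
  refine ⟨⟨fun V =>
    { toFun := T V
      map_add' := fun s s' => huniq _ _ _ fun W h => by rw [map_add, hT, hT, hT, map_add, map_add]
      map_smul' := fun r s => huniq _ _ _ fun W h => by
        rw [RingHom.id_apply, hT, M1.mres_smul, M1.mres_smul, hT, hsmul] },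
    fun V V' h s => huniq _ _ _ fun W hW => by
      show M1.mres N hW (T V' (M1.mres M h s)) = M1.mres N hW (M1.mres N h (T V s))
      rw [hT, M1.mres_mres, M1.mres_mres, hT]⟩, fun W hW m => ?_⟩
  have h1 := hT ⟨W.1, hW⟩ m W le_rfl
  rw [M1.mres_id N le_rfl, M1.mres_id M le_rfl] at h1
  exact h1

end HomSec

variable {k : Type u} [Field k] {X : Scheme.{u}} (x : X ⟶ Art.specPt k) {I₀ : X.IdealSheafData}

theorem app_eq_app {W : X.affineOpens} {g g' : Γ(X, W.1)} (h : g - g' ∈ I₀.ideal W) :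
    (I₀.subschemeι.app W.1 g : Γ(ClSub.quotMod I₀, W.1)) = I₀.subschemeι.app W.1 g' := by
  rw [← Scheme.IdealSheafData.ker_subschemeι_app, RingHom.mem_ker, map_sub, sub_eq_zero] at h
  exact h

theorem sub_mem_of_app_eq {W : X.affineOpens} {g g' : Γ(X, W.1)}
    (h : (I₀.subschemeι.app W.1 g : Γ(ClSub.quotMod I₀, W.1)) = I₀.subschemeι.app W.1 g') : g - g' ∈ I₀.ideal W := by
  rw [← Scheme.IdealSheafData.ker_subschemeι_app, RingHom.mem_ker, map_sub, sub_eq_zero]
  exact h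

theorem incl_mem (W : X.affineOpens) (m : Γ(ClSub.idealMod I₀, W.1)) : M2.idealIncl I₀ m ∈ I₀.ideal W :=
  (M2.range_idealIncl I₀ W).le ⟨m, rfl⟩

variable {B A : Art k k} (p : B ⟶ A) (J : (ArtFun.localHilb X x I₀).obj A)

theorem cres_cres {U W T : X.affineOpens} (h : W.1 ≤ U.1) (h' : T.1 ≤ W.1) :
    (cres x B h').comp (cres x B h) = cres x B (h'.trans h) := by
  refine RingHom.ext fun y => ?_
  show ((XA x B).presheaf.map _ ≫ (XA x B).presheaf.map _) y = _
  rw [← Functor.map_comp]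
  rfl

/-- The difference of two lifts on an overlap is a homomorphism from the ideal to the quotient. -/
theorem exists_diffSec (hp : IsSmallExt p) {t : B} (ht : RingHom.ker p.toAlgHom = Ideal.span {t})
    {V V' : X.affineOpens} {L : Ideal Γ(XA x B, (chart x B V).1)} {L' : Ideal Γ(XA x B, (chart x B V').1)}
    (hL : LiftOn x p J hp ht V L) (hL' : LiftOn x p J hp ht V' L') :
    ∃ s : M2.HomSec (ClSub.idealMod I₀) (ClSub.quotMod I₀) (V.1 ⊓ V'.1),
      ∀ (W : X.affineOpens) (hW : W.1 ≤ V.1 ⊓ V'.1) (m : Γ(ClSub.idealMod I₀, W.1)) (g : Γ(X, W.1)),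
        Diff (stepOf x p hp ht W) (L.map (cres x B (hW.trans inf_le_left))) (L'.map (cres x B (hW.trans inf_le_right)))
            (M2.idealIncl I₀ m) g →
          s.1 ⟨W.1, hW⟩ m = I₀.subschemeι.app W.1 g := by
  have hl := fun (W : X.affineOpens) (hW : W.1 ≤ V.1 ⊓ V'.1) => liftOn_res x p J (hW.trans inf_le_left) hp ht hL
  have hl' := fun (W : X.affineOpens) (hW : W.1 ≤ V.1 ⊓ V'.1) => liftOn_res x p J (hW.trans inf_le_right) hp ht hL'
  choose g hg using fun (W : X.affineOpens) (hW : W.1 ≤ V.1 ⊓ V'.1) (m : Γ(ClSub.idealMod I₀, W.1)) =>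
    exists_diff (stepOf x p hp ht W) (hl W hW) (hl' W hW) (incl_mem W m)
  have wd : ∀ (W : X.affineOpens) hW m g', Diff (stepOf x p hp ht W) (L.map (cres x B (le_trans hW inf_le_left)))
      (L'.map (cres x B (le_trans hW inf_le_right))) (M2.idealIncl I₀ m) g' →
      (I₀.subschemeι.app W.1 (g W hW m) : Γ(ClSub.quotMod I₀, W.1)) = I₀.subschemeι.app W.1 g' :=
    fun W hW m g' h' => app_eq_app (diff_unique (stepOf x p hp ht W) (hl W hW) (hl' W hW) (hg W hW m) h')
  obtain ⟨s, hs⟩ := exists_homSec (M := ClSub.idealMod I₀) (N := ClSub.quotMod I₀)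
    (fun W hW => AddMonoidHom.mk' (fun m => (I₀.subschemeι.app W.1 (g W hW m) : Γ(ClSub.quotMod I₀, W.1)))
      fun m m' => by
        refine Eq.trans ?_ (map_add (I₀.subschemeι.app W.1).hom (g W hW m) (g W hW m'))
        refine wd W hW (m + m') _ ?_
        rw [M2.idealIncl_add]
        exact diff_add (stepOf x p hp ht W) (hg W hW m) (hg W hW m'))
    (fun W hW r m => by
      show I₀.subschemeι.app W.1 (g W hW (r • m)) = I₀.subschemeι.app W.1 r * I₀.subschemeι.app W.1 (g W hW m)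
      rw [← map_mul]
      refine wd W hW (r • m) _ ?_
      rw [M2.idealIncl_smul]
      exact diff_smul (stepOf x p hp ht W) r (hg W hW m))
    (fun U hU W hW h m => by
      show I₀.subscheme.presheaf.map (homOfLE (I₀.subschemeι.preimage_mono h)).op (I₀.subschemeι.app U.1 (g U hU m)) =
        I₀.subschemeι.app W.1 (g W hW (M1.mres (ClSub.idealMod I₀) h m))
      have hn : I₀.subscheme.presheaf.map (homOfLE (I₀.subschemeι.preimage_mono h)).op (I₀.subschemeι.app U.1 (g U hU m)) =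
          I₀.subschemeι.app W.1 (X.presheaf.map (homOfLE h).op (g U hU m)) := by
        rw [← ConcreteCategory.comp_apply, ← ConcreteCategory.comp_apply, Scheme.Hom.naturality]
        rfl
      rw [hn]
      refine (wd W hW _ _ ?_).symm
      rw [show M2.idealIncl I₀ (M1.mres (ClSub.idealMod I₀) h m) = X.presheaf.map (homOfLE h).op (M2.idealIncl I₀ m)
        from M2.idealIncl_res I₀ h m]
      have := diff_res x p h hp ht (hg U hU m)
      rwa [Ideal.map_map, cres_cres, Ideal.map_map, cres_cres] at this)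
  exact ⟨s, fun W hW m g' h' => (hs W hW m).trans (wd W hW m g' h')⟩

/-- A lift can be translated by a homomorphism from the ideal to the quotient. -/
theorem exists_translateSec (hp : IsSmallExt p) {t : B} (ht : RingHom.ker p.toAlgHom = Ideal.span {t})
    {V : X.affineOpens} {L : Ideal Γ(XA x B, (chart x B V).1)} (hL : LiftOn x p J hp ht V L)
    (φ : M2.HomSec (ClSub.idealMod I₀) (ClSub.quotMod I₀) V.1) :
    ∃ L', LiftOn x p J hp ht V L' ∧ ∀ (W : X.affineOpens) (hW : W.1 ≤ V.1) (m : Γ(ClSub.idealMod I₀, W.1)),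
      ∃ g, Diff (stepOf x p hp ht W) (L.map (cres x B hW)) (L'.map (cres x B hW)) (M2.idealIncl I₀ m) g ∧
        (I₀.subschemeι.app W.1 g : Γ(ClSub.quotMod I₀, W.1)) = φ.1 ⟨W.1, hW⟩ m := by
  classical
  choose g₀ hg₀ using fun m => Scheme.Hom.app_surjective I₀.subschemeι V.1 V.2 (φ.1 ⟨V.1, le_rfl⟩ m)
  obtain ⟨d, hd⟩ : ∃ d : Γ(X, V.1) → Γ(X, V.1), ∀ m,
      (I₀.subschemeι.app V.1 (d (M2.idealIncl I₀ m)) : Γ(ClSub.quotMod I₀, V.1)) = φ.1 ⟨V.1, le_rfl⟩ m := by
    refine ⟨fun f => if hf : ∃ m, M2.idealIncl I₀ (U := V.1) m = f then g₀ hf.choose else 0, fun m => ?_⟩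
    have hf : ∃ m', M2.idealIncl I₀ (U := V.1) m' = M2.idealIncl I₀ m := ⟨m, rfl⟩
    simp only [dif_pos hf]
    rw [hg₀, M2.idealIncl_injective I₀ _ hf.choose_spec]
  have hpre : ∀ f ∈ I₀.ideal V, ∃ m, M2.idealIncl I₀ (U := V.1) m = f := fun f hf =>
    (M2.range_idealIncl I₀ V).ge hf
  have hadd : ∀ f ∈ I₀.ideal V, ∀ f' ∈ I₀.ideal V, d (f + f') - (d f + d f') ∈ I₀.ideal V := by
    intro f hf f' hf'
    obtain ⟨m, rfl⟩ := hpre f hf
    obtain ⟨m', rfl⟩ := hpre f' hf'
    refine sub_mem_of_app_eq ?_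
    rw [← M2.idealIncl_add, hd, map_add, ← hd m, ← hd m']
    exact (map_add (I₀.subschemeι.app V.1).hom _ _).symm
  have hsmul : ∀ a, ∀ f ∈ I₀.ideal V, d (a * f) - a * d f ∈ I₀.ideal V := by
    intro a f hf
    obtain ⟨m, rfl⟩ := hpre f hf
    refine sub_mem_of_app_eq ?_
    rw [← M2.idealIncl_smul, hd, map_smul, ← hd m]
    exact (map_mul (I₀.subschemeι.app V.1).hom _ _).symm
  refine ⟨_, isLift_translate (stepOf x p hp ht V) hL d hadd hsmul, fun W hW => ?_⟩
  suffices H : ∀ f ∈ I₀.ideal W, ∃ g m, M2.idealIncl I₀ m = f ∧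
      Diff (stepOf x p hp ht W) (L.map (cres x B hW))
        ((translate (stepOf x p hp ht V) hL d hadd hsmul).map (cres x B hW)) f g ∧
      (I₀.subschemeι.app W.1 g : Γ(ClSub.quotMod I₀, W.1)) = φ.1 ⟨W.1, hW⟩ m by
    intro m
    obtain ⟨g, m', e, h1, h2⟩ := H _ (incl_mem W m)
    obtain rfl := M2.idealIncl_injective I₀ _ e
    exact ⟨g, h1, h2⟩
  intro f hf
  rw [← I₀.map_ideal (U := W) (V := V) hW] at hf
  induction hf using Submodule.span_induction with
  | mem f hf =>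
    obtain ⟨a, ha, rfl⟩ := hf
    obtain ⟨m, rfl⟩ := hpre a ha
    refine ⟨_, M1.mres _ hW m, M2.idealIncl_res I₀ hW m,
      diff_res x p hW hp ht (diff_translate (stepOf x p hp ht V) hL d hadd hsmul (incl_mem _ m)), ?_⟩
    refine Eq.trans ?_ (φ.2 ⟨V.1, le_rfl⟩ ⟨W.1, hW⟩ hW m).symm
    rw [← hd m]
    show (X.presheaf.map (homOfLE hW).op ≫ I₀.subschemeι.app W.1) (d (M2.idealIncl I₀ m)) = _
    rw [Scheme.Hom.naturality]
    rfl
  | zero =>
    refine ⟨0, 0, idealIncl_zero _, ?_, ?_⟩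
    · obtain ⟨g, hg⟩ := exists_diff (stepOf x p hp ht W) (liftOn_res x p J hW hp ht hL)
        (liftOn_res x p J hW hp ht (isLift_translate (stepOf x p hp ht V) hL d hadd hsmul)) (zero_mem (I₀.ideal W))
      simpa using diff_smul (stepOf x p hp ht W) 0 hg
    · rw [map_zero, map_zero]; rfl
  | add f f' _ _ ih ih' =>
    obtain ⟨g, m, e, h1, h2⟩ := ih
    obtain ⟨g', m', e', h1', h2'⟩ := ih'
    refine ⟨g + g', m + m', by rw [M2.idealIncl_add, e, e'], diff_add (stepOf x p hp ht W) h1 h1', ?_⟩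
    rw [map_add, map_add]
    exact congr_arg₂ (· + ·) h2 h2'
  | smul r f _ ih =>
    obtain ⟨g, m, e, h1, h2⟩ := ih
    refine ⟨r * g, r • m, by rw [M2.idealIncl_smul, e]; rfl, diff_smul (stepOf x p hp ht W) r h1, ?_⟩
    rw [map_smul, ← h2]
    exact map_mul (I₀.subschemeι.app W.1).hom _ _

/-- Translated lifts agree on the overlap. -/
theorem map_eq_of_diffSec (hp : IsSmallExt p) {t : B} (ht : RingHom.ker p.toAlgHom = Ideal.span {t})
    {V V' W : X.affineOpens} (hV : W.1 ≤ V.1) (hV' : W.1 ≤ V'.1)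
    {L M : Ideal Γ(XA x B, (chart x B V).1)} {L' M' : Ideal Γ(XA x B, (chart x B V').1)}
    (hL : LiftOn x p J hp ht V L) (hM : LiftOn x p J hp ht V M) (hL' : LiftOn x p J hp ht V' L')
    (hM' : LiftOn x p J hp ht V' M')
    (H : ∀ m : Γ(ClSub.idealMod I₀, W.1), ∃ a b c,
      Diff (stepOf x p hp ht W) (L.map (cres x B hV)) (M.map (cres x B hV)) (M2.idealIncl I₀ m) a ∧
      Diff (stepOf x p hp ht W) (L'.map (cres x B hV')) (M'.map (cres x B hV')) (M2.idealIncl I₀ m) b ∧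
      Diff (stepOf x p hp ht W) (L.map (cres x B hV)) (L'.map (cres x B hV')) (M2.idealIncl I₀ m) c ∧
      (I₀.subschemeι.app W.1 a : Γ(ClSub.quotMod I₀, W.1)) - I₀.subschemeι.app W.1 b = I₀.subschemeι.app W.1 c) :
    M.map (cres x B hV) = M'.map (cres x B hV') := by
  have hlM := liftOn_res x p J hV hp ht hM
  have hlM' := liftOn_res x p J hV' hp ht hM'
  have hlL := liftOn_res x p J hV hp ht hL
  have hlL' := liftOn_res x p J hV' hp ht hL'
  refine eq_of_diff_zero (stepOf x p hp ht W) hlM hlM' fun f hf g hg => ?_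
  obtain ⟨m, rfl⟩ := (M2.range_idealIncl I₀ W).ge hf
  obtain ⟨a, b, c, ha, hb, hc, e⟩ := H m
  have h1 := diff_trans (stepOf x p hp ht W) hlM hlM' ha hg
  have h2 := diff_trans (stepOf x p hp ht W) hlL' hlM' hc hb
  have h3 := diff_unique (stepOf x p hp ht W) hlL hlM' h1 h2
  have h4 : a - (c + b) ∈ I₀.ideal W := by
    refine sub_mem_of_app_eq ?_
    rw [map_add]
    exact eq_add_of_sub_eq e
  have := sub_mem h3 h4
  convert this using 1
  ring

/-- Local lifts glue if their differences form a coboundary. -/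
theorem exists_lift_of_boundary [LocallyOfFiniteType x] (hp : IsSmallExt p) {n : ℕ} (V : Fin n → X.affineOpens)
    (hcov : ⨆ i, (V i).1 = ⊤) {t : B} (ht : RingHom.ker p.toAlgHom = Ideal.span {t})
    (L : ∀ i, Ideal Γ(XA x B, (chart x B (V i)).1)) (hL : ∀ i, LiftOn x p J hp ht (V i) (L i))
    (s : ∀ i j, M2.HomSec (ClSub.idealMod I₀) (ClSub.quotMod I₀) ((V i).1 ⊓ (V j).1))
    (hs : ∀ i j (W : X.affineOpens) (hW : W.1 ≤ (V i).1 ⊓ (V j).1) (m : Γ(ClSub.idealMod I₀, W.1)) (g : Γ(X, W.1)),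
        Diff (stepOf x p hp ht W) ((L i).map (cres x B (hW.trans inf_le_left))) ((L j).map (cres x B (hW.trans inf_le_right)))
            (M2.idealIncl I₀ m) g →
          (s i j).1 ⟨W.1, hW⟩ m = I₀.subschemeι.app W.1 g)
    (h : ∀ i, ((CohFound.abF X).obj (M2.homMod (ClSub.idealMod I₀) (ClSub.quotMod I₀))).obj.obj (op (V i).1))
    (hh : ∀ i j, CubeField.ab ((CohFound.abF X).obj (M2.homMod (ClSub.idealMod I₀) (ClSub.quotMod I₀))) inf_le_left (h i) -
        CubeField.ab ((CohFound.abF X).obj (M2.homMod (ClSub.idealMod I₀) (ClSub.quotMod I₀))) inf_le_right (h j) = s i j) :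
    ∃ J', (ArtFun.localHilb X x I₀).map p J' = J := by
  choose L' hL' htr using fun i => exists_translateSec x p J hp ht (hL i) (M2.homSecOf _ _ (h i))
  have hagree : ∀ (i j : Fin n) (W : X.affineOpens) (hi : W.1 ≤ (V i).1) (hj : W.1 ≤ (V j).1),
      (L' i).map (cres x B hi) = (L' j).map (cres x B hj) := by
    intro i j W hi hj
    refine map_eq_of_diffSec x p J hp ht hi hj (hL i) (hL' i) (hL j) (hL' j) fun m => ?_
    obtain ⟨a, ha, ha'⟩ := htr i W hi m
    obtain ⟨b, hb, hb'⟩ := htr j W hj m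
    obtain ⟨c₀, hc₀⟩ := exists_diff (stepOf x p hp ht W) (liftOn_res x p J hi hp ht (hL i)) (liftOn_res x p J hj hp ht (hL j)) (incl_mem W m)
    refine ⟨a, b, c₀, ha, hb, hc₀, ?_⟩
    rw [ha', hb', ← hs i j W (le_inf hi hj) m c₀ hc₀]
    exact congrArg (fun φ : M2.HomSec (ClSub.idealMod I₀) (ClSub.quotMod I₀) ((V i).1 ⊓ (V j).1) =>
      φ.1 ⟨W.1, le_inf hi hj⟩ m) (hh i j)
  -- glue
  haveI : IsLocallyNoetherian (XA x B) := LocallyOfFiniteType.isLocallyNoetherian (XApr x B)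
  obtain ⟨K, hK⟩ := exists_idealSheaf (fun i => chart x B (V i))
    (by
      show ⨆ i, pullback.fst x (specOver B) ⁻¹ᵁ (V i).1 = ⊤
      rw [← Scheme.Hom.preimage_iSup, hcov]; rfl) L' fun i j W hi hj => by
    obtain ⟨U, hU, hUW⟩ := exists_chart_eq x B W
    obtain rfl : chart x B U = W := Subtype.ext hUW
    have hle : ∀ l, (chart x B U).1 ≤ (chart x B (V l)).1 → U.1 ≤ (V l).1 := fun l hl => by
      have := (XAincl x B).preimage_mono hl
      rwa [preimage_incl, preimage_incl] at this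
    exact hagree i j U (hle i hi) (hle j hj)
  have hKA : K.comap (XAmap x p) = J.1 :=
    Scheme.IdealSheafData.ext_of_iSup_eq_top (fun i => chart x A (V i))
      (by
        show ⨆ i, pullback.fst x (specOver A) ⁻¹ᵁ (V i).1 = ⊤
        rw [← Scheme.Hom.preimage_iSup, hcov]; rfl) fun i => by
      rw [comap_chart, hK]
      exact ((liftOn_iff x p J hp ht (V i) (L' i)).1 (hL' i)).2
  refine ⟨⟨K, flatOver_of_cover x B K V hcov fun i => ?_, ?_⟩, Subtype.ext hKA⟩
  · rw [hK]; exact ((liftOn_iff x p J hp ht (V i) (L' i)).1 (hL' i)).1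
  · rw [← XAincl_XAmap x p, Scheme.IdealSheafData.comap_comp, hKA]; exact J.2.2


/-- Local lifts glue if the first cohomology of the sheaf of homomorphisms vanishes. -/
theorem exists_lift_of_local [LocallyOfFiniteType x] (hp : IsSmallExt p) {n : ℕ} (V : Fin n → X.affineOpens)
    (hcov : ⨆ i, (V i).1 = ⊤) {t : B} (ht : RingHom.ker p.toAlgHom = Ideal.span {t})
    (L : ∀ i, Ideal Γ(XA x B, (chart x B (V i)).1)) (hL : ∀ i, LiftOn x p J hp ht (V i) (L i))
    (hH1 : Subsingleton (Coh.HH X (M2.homMod (ClSub.idealMod I₀) (ClSub.quotMod I₀)) 1)) :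
    ∃ J', (ArtFun.localHilb X x I₀).map p J' = J := by
  let N := M2.homMod (ClSub.idealMod I₀) (ClSub.quotMod I₀)
  have hlift : ∀ i (W : X.affineOpens) (h : W.1 ≤ (V i).1), LiftOn x p J hp ht W ((L i).map (cres x B h)) :=
    fun i W h => liftOn_res x p J h hp ht (hL i)
  choose s hs using fun i j => exists_diffSec x p J hp ht (hL i) (hL j)
  have hcoc : CubeField.IsCocycleAb ((CohFound.abF X).obj N) (fun i => (V i).1) (fun i j => s i j) := by
    intro i j l T hi hj hl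
    refine homSec_ext fun W hW m => ?_
    obtain ⟨g, hg⟩ := exists_diff (stepOf x p hp ht W) (hlift i W (hW.trans hi)) (hlift j W (hW.trans hj)) (incl_mem W m)
    obtain ⟨g', hg'⟩ := exists_diff (stepOf x p hp ht W) (hlift j W (hW.trans hj)) (hlift l W (hW.trans hl)) (incl_mem W m)
    show (s i j).1 ⟨W.1, _⟩ m + (s j l).1 ⟨W.1, _⟩ m = (s i l).1 ⟨W.1, _⟩ m
    rw [hs i j W (le_inf (hW.trans hi) (hW.trans hj)) m g hg, hs j l W (le_inf (hW.trans hj) (hW.trans hl)) m g' hg',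
      hs i l W (le_inf (hW.trans hi) (hW.trans hl)) m (g + g') (diff_trans (stepOf x p hp ht W) (hlift j W (hW.trans hj))
        (hlift l W (hW.trans hl)) hg hg')]
    exact (map_add (I₀.subschemeι.app W.1).hom g g').symm
  obtain ⟨c, hc⟩ := CubeField.exists_isClass ((CohFound.abF X).obj N) (fun i => (V i).1) hcov _ hcoc
  haveI := (CohFound.subsingleton_HH_iff N 1).1 hH1
  rw [Subsingleton.elim c 0] at hc
  obtain ⟨h, hh⟩ := hc.eq_boundary
  exact exists_lift_of_boundary x p J hp V hcov ht L hL s hs h hh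

end Groth.Agent.HilbObs3
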