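import Groth.Agent.Lib.HilbObs3.Glue
import Groth.Prelude.Def_ArtFun3

/-!
# Charts of surjections killed by the maximal ideal and their quotients
-/

set_option autoImplicit false
set_option linter.style.haveILetI false
set_option backward.isDefEq.respectTransparency.types false

universe u

open CategoryTheory CategoryTheory.Limits AlgebraicGeometry IsLocalRing Opposite

namespace Groth.Agent.HilbObs3

open ArtFun ArtFun.Art HilbRS3

variable {k : Type u} [Field k] {X : Scheme.{u}} (x : X ⟶ Art.specPt k) {I₀ : X.IdealSheafData}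
variable {B A : Art k k} (p : B ⟶ A)

theorem ker_cπ_map (U : X.affineOpens) :
    RingHom.ker (cπ x p U) = (RingHom.ker p.toAlgHom).map (cσ x B U) := by
  refine le_antisymm (fun y hy => ?_) (Ideal.map_le_iff_le_comap.2 fun b hb => ?_)
  · obtain ⟨ι, r, hr⟩ := exists_basis (isNilpotent_m B) (cσ x B U) ⊥
      ((RingHom.Flat.of_bijective (f := (RingEquiv.quotientBot Γ(XA x B, (chart x B U).1)).symm.toRingHom)
        (RingEquiv.bijective _)) |> fun h => (flat_cσ x B U).comp h)
    obtain ⟨c, hc⟩ := hr.1 y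
    rw [Ideal.mem_bot, sub_eq_zero] at hc
    subst hc
    have h1 := ((bc x p U).push hr).2 (c.mapRange p.toAlgHom.toRingHom (map_zero _)) (by
      rw [← (bc x p U).comb_map, RingHom.mem_ker.1 hy]; exact zero_mem _)
    have h2 : ∀ i, c i ∈ RingHom.ker p.toAlgHom := fun i =>
      RingHom.mem_ker.2 (by simpa using congrArg (fun d : ι →₀ A => d i) h1)
    clear h1 hy hr
    classical
    induction c using Finsupp.induction with
    | zero => rw [map_zero]; exact zero_mem _
    | single_add i b d hi _ ih =>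
      rw [map_add, comb_single]
      refine add_mem (Ideal.mul_mem_right _ _ (Ideal.mem_map_of_mem _ ?_)) (ih fun j => ?_)
      · simpa [Finsupp.notMem_support_iff.1 hi] using h2 i
      · by_cases hji : j = i
        · rw [hji, Finsupp.notMem_support_iff.1 hi]; exact zero_mem _
        · simpa [Finsupp.single_eq_of_ne hji] using h2 j
  · rw [Ideal.mem_comap, RingHom.mem_ker, cπ_cσ, show p.toAlgHom b = 0 from hb, map_zero]

variable (K : Ideal B) (hK : K ≤ maximalIdeal B) (hKJ : K ≤ RingHom.ker p.toAlgHom)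

theorem cπ_quotFactor (U : X.affineOpens) :
    (cπ x (quotFactor hK p hKJ) U).comp (cπ x (quotMk B K hK) U) = cπ x p U := by
  refine RingHom.ext fun z => ?_
  show ((XAmap x (quotMk B K hK)).appLE (chart x B U).1 (chart x (quot B K hK) U).1 (preimage_chart x (quotMk B K hK) U).ge ≫
    (XAmap x (quotFactor hK p hKJ)).appLE (chart x (quot B K hK) U).1 (chart x A U).1
      (preimage_chart x (quotFactor hK p hKJ) U).ge) z =
    (XAmap x p).appLE (chart x B U).1 (chart x A U).1 (preimage_chart x p U).ge z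
  rw [Scheme.Hom.appLE_comp_appLE]
  have e : XAmap x (quotFactor hK p hKJ) ≫ XAmap x (quotMk B K hK) = XAmap x p := by
    rw [← XAmap_comp, quotMk_quotFactor]
  simp only [e]

variable (J : (ArtFun.localHilb X x I₀).obj A)

/-- A lift on a chart along any surjection. -/
structure LiftP (U : X.affineOpens) (L : Ideal Γ(XA x B, (chart x B U).1)) : Prop where
  flat : ((Ideal.Quotient.mk L).comp (cσ x B U)).Flat
  map_eq : L.map (cπ x p U) = J.1.ideal (chart x A U)

variable {p J}

theorem LiftP.res {U W : X.affineOpens} (h : W.1 ≤ U.1) {L : Ideal Γ(XA x B, (chart x B U).1)}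
    (hL : LiftP x p J U L) : LiftP x p J W (L.map (cres x B h)) := by
  refine ⟨?_, ?_⟩
  · have h2 := hL.1.comp (flat_quotientMap L (flat_cres x h B))
    have e : (Ideal.quotientMap (L.map (cres x B h)) (cres x B h) Ideal.le_comap_map).comp
        ((Ideal.Quotient.mk L).comp (cσ x B U)) = (Ideal.Quotient.mk (L.map (cres x B h))).comp (cσ x B W) :=
      RingHom.ext fun b => congrArg (Ideal.Quotient.mk (L.map (cres x B h))) (cres_cσ x h B b)
    rwa [e] at h2
  · rw [Ideal.map_map, show (cπ x p W).comp (cres x B h) = (cres x A h).comp (cπ x p U) from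
      RingHom.ext (cπ_cres x p h), ← Ideal.map_map, hL.2]
    exact J.1.map_ideal (U := chart x A W) (V := chart x A U) (chart_mono x A h)

theorem flat_push {U : X.affineOpens} {L : Ideal Γ(XA x B, (chart x B U).1)}
    (hL : ((Ideal.Quotient.mk L).comp (cσ x B U)).Flat) :
    ((Ideal.Quotient.mk (L.map (cπ x (quotMk B K hK) U))).comp (cσ x (quot B K hK) U)).Flat := by
  let π := cπ x (quotMk B K hK) U
  let σ := cσ x (quot B K hK) U
  have hπ : Function.Surjective π := cπ_surjective x (quotMk B K hK) (quotMk_surjective B K hK) U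
  have hker : RingHom.ker π = K.map (cσ x B U) := by
    rw [ker_cπ_map]; exact congrArg (Ideal.map _) (Ideal.mk_ker (I := K))
  have h1 := flat_quotientMap K hL
  let φ : ((Γ(XA x B, (chart x B U).1) ⧸ L) ⧸ K.map ((Ideal.Quotient.mk L).comp (cσ x B U))) →+*
      Γ(XA x (quot B K hK), (chart x (quot B K hK) U).1) ⧸ L.map π :=
    Ideal.Quotient.lift _ (Ideal.quotientMap (L.map π) π Ideal.le_comap_map) fun a ha => by
      refine (Ideal.map_le_iff_le_comap.2 ?_ : _ ≤ RingHom.ker (Ideal.quotientMap (L.map π) π Ideal.le_comap_map)) ha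
      intro b hb
      show Ideal.Quotient.mk (L.map π) (π (cσ x B U b)) = 0
      rw [show π (cσ x B U b) = 0 from RingHom.mem_ker.1 (hker.ge (Ideal.mem_map_of_mem _ hb)), map_zero]
  have hφ : Function.Bijective φ := by
    refine ⟨(injective_iff_map_eq_zero _).2 fun a ha => ?_, fun z => ?_⟩
    · obtain ⟨a, rfl⟩ := Ideal.Quotient.mk_surjective a
      obtain ⟨a, rfl⟩ := Ideal.Quotient.mk_surjective a
      change Ideal.Quotient.mk (L.map π) (π a) = 0 at ha
      rw [Ideal.Quotient.eq_zero_iff_mem, ← Ideal.mem_comap, Ideal.comap_map_of_surjective _ hπ,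
        ← RingHom.ker_eq_comap_bot, hker] at ha
      obtain ⟨l, hl, c, hc, rfl⟩ := Submodule.mem_sup.1 ha
      refine Ideal.Quotient.eq_zero_iff_mem.2 ?_
      rw [map_add, Ideal.Quotient.eq_zero_iff_mem.2 hl, zero_add, ← Ideal.map_map]
      exact Ideal.mem_map_of_mem _ hc
    · obtain ⟨z, rfl⟩ := Ideal.Quotient.mk_surjective z
      obtain ⟨a, rfl⟩ := hπ z
      exact ⟨Ideal.Quotient.mk _ (Ideal.Quotient.mk L a), rfl⟩
  have e : φ.comp (Ideal.quotientMap (K.map ((Ideal.Quotient.mk L).comp (cσ x B U)))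
      ((Ideal.Quotient.mk L).comp (cσ x B U)) Ideal.le_comap_map) = (Ideal.Quotient.mk (L.map π)).comp σ :=
    Ideal.Quotient.ringHom_ext (RingHom.ext fun b => congrArg (Ideal.Quotient.mk (L.map π))
      (cπ_cσ x (quotMk B K hK) U b))
  rw [← e]
  exact h1.comp (RingHom.Flat.of_bijective hφ)

theorem LiftP.push {U : X.affineOpens} {L : Ideal Γ(XA x B, (chart x B U).1)} (hL : LiftP x p J U L) :
    LiftP x (quotFactor hK p hKJ) J U (L.map (cπ x (quotMk B K hK) U)) :=
  ⟨flat_push x K hK hL.1, by rw [Ideal.map_map, cπ_quotFactor, hL.2]⟩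

theorem LiftP.map_ι₀ {U : X.affineOpens} {L : Ideal Γ(XA x B, (chart x B U).1)} (hL : LiftP x p J U L) :
    L.map (cι₀ x B U) = I₀.ideal U := by
  rw [← comap_incl x J U, ← hL.2, Ideal.map_map]
  congr 1
  exact RingHom.ext fun y => (cι₀_cπ x p U y).symm

/-- Two lifts of a section differ by elements of the kernel. -/
theorem exists_decomp (hp : IsSemismallExt p) {U : X.affineOpens} {L L' : Ideal Γ(XA x B, (chart x B U).1)}
    (hL : LiftP x p J U L) (hL' : LiftP x p J U L') {f : Γ(X, U.1)} (hf : f ∈ I₀.ideal U) :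
    ∃ y ∈ L, cι₀ x B U y = f ∧ ∃ (n : ℕ) (a : Fin n → B) (g : Fin n → Γ(X, U.1)),
      (∀ l, a l ∈ RingHom.ker p.toAlgHom) ∧ y + ∑ l, cσ x B U (a l) * cι x B U (g l) ∈ L' := by
  have hs : Function.Surjective (cι₀ x B U) := fun r => ⟨_, cι₀_cι x B U r⟩
  obtain ⟨y, hy, hyf⟩ := (Ideal.mem_map_iff_of_surjective _ hs).1 (hL.map_ι₀.ge hf)
  refine ⟨y, hy, hyf, ?_⟩
  have h1 : cπ x p U y ∈ L'.map (cπ x p U) := by rw [hL'.2, ← hL.2]; exact Ideal.mem_map_of_mem _ hy
  obtain ⟨y', hy', hyy⟩ := (Ideal.mem_map_iff_of_surjective _ (cπ_surjective x p hp.1 U)).1 h1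
  have h2 : y' - y ∈ (RingHom.ker p.toAlgHom).map (cσ x B U) := by
    rw [← ker_cπ_map, RingHom.mem_ker, map_sub, hyy, sub_self]
  have h3 : ∀ z ∈ (RingHom.ker p.toAlgHom).map (cσ x B U), ∃ (n : ℕ) (a : Fin n → B) (g : Fin n → Γ(X, U.1)),
      (∀ l, a l ∈ RingHom.ker p.toAlgHom) ∧ z = ∑ l, cσ x B U (a l) * cι x B U (g l) := by
    intro z hz
    obtain ⟨n, c, g, rfl⟩ := Submodule.mem_span_set'.1 hz
    choose a ha ha' using fun l => (g l).2
    refine ⟨n, a, fun l => cι₀ x B U (c l), ha, Finset.sum_congr rfl fun l _ => ?_⟩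
    have hm : c l - cι x B U (cι₀ x B U (c l)) ∈ (maximalIdeal B).map (cσ x B U) := by
      rw [← ker_cι₀, RingHom.mem_ker, map_sub, cι₀_cι, sub_self]
    have h0 : cσ x B U (a l) * (c l - cι x B U (cι₀ x B U (c l))) = 0 := by
      have hmul : (RingHom.ker p.toAlgHom).map (cσ x B U) * (maximalIdeal B).map (cσ x B U) = ⊥ := by
        rw [← Ideal.map_mul, mul_comm, hp.2, Ideal.map_bot]
      exact Ideal.mem_bot.1 (hmul.le (Ideal.mul_mem_mul (Ideal.mem_map_of_mem _ (ha l)) hm))
    rw [mul_sub, sub_eq_zero] at h0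
    rw [smul_eq_mul, ← ha' l, mul_comm, h0]
  obtain ⟨n, a, g, ha, he⟩ := h3 _ h2
  exact ⟨n, a, g, ha, by rw [← he, add_sub_cancel]; exact hy'⟩

end Groth.Agent.HilbObs3
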