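import Groth.Agent.Lib.HilbObs3.Main
import Groth.Agent.Lib.EmbDef.Regular
import Groth.Agent.Lib.HBDef3.Basic
import Groth.Prelude.Def_Mor2

/-!
# Local lifts at the points of a regular immersion
-/

set_option autoImplicit false
set_option linter.style.haveILetI false
set_option backward.isDefEq.respectTransparency.types false

universe u

open CategoryTheory CategoryTheory.Limits AlgebraicGeometry IsLocalRing Opposite

namespace Groth.Agent.HilbObs3

open ArtFun ArtFun.Art HilbRS3

/-- A subideal with the same special fibre as an ideal with flat quotient is equal to it. -/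
theorem eq_of_le_of_flat {C S : Type u} [CommRing C] [CommRing S] (σ : C →+* S) {m : Ideal C}
    (hm : IsNilpotent m) {F J : Ideal S} (hflat : ((Ideal.Quotient.mk J).comp σ).Flat) (hle : F ≤ J)
    (hsup : J ≤ F ⊔ m.map σ) : F = J := by
  letI := σ.toAlgebra
  haveI : Module.Flat C (S ⧸ J) := RingHom.flat_algebraMap_iff.1 hflat
  haveI : Module.Flat C (S ⧸ J.restrictScalars C) := Module.Flat.of_linearEquiv (Submodule.Quotient.restrictScalarsEquiv C J)
  have key : ∀ n, J ≤ F ⊔ (m.map σ) ^ n * J := by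
    intro n
    induction n with
    | zero => exact le_trans (by simp) le_sup_right
    | succ n ih =>
      refine le_trans ih (sup_le le_sup_left (Ideal.mul_le.2 fun a ha x hx => ?_))
      obtain ⟨f, hf, z, hz, rfl⟩ := Submodule.mem_sup.1 (hsup hx)
      have hzJ : z ∈ J := by
        have := sub_mem hx (hle hf)
        rwa [add_sub_cancel_left] at this
      have h1 : z ∈ m • (J.restrictScalars C) := HBDef3.mem_smul_of_mem_of_flat_quot m (J.restrictScalars C) hzJ
        (by rw [Ideal.smul_top_eq_map]; exact hz)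
      rw [mul_add]
      refine add_mem (Ideal.mem_sup_left (Ideal.mul_mem_left _ _ hf)) (Ideal.mem_sup_right ?_)
      rw [pow_succ, mul_assoc]
      refine Ideal.mul_mem_mul ha ?_
      refine Submodule.smul_induction_on h1 (fun c hc y hy => ?_) (fun a b ha hb => add_mem ha hb)
      rw [Algebra.smul_def]
      exact Ideal.mul_mem_mul (Ideal.mem_map_of_mem _ hc) hy
  obtain ⟨n, hn⟩ := hm
  refine le_antisymm hle ((key n).trans ?_)
  rw [← Ideal.map_pow, hn, Ideal.zero_eq_bot, Ideal.map_bot, Ideal.bot_mul, sup_bot_eq]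

variable {k : Type u} [Field k] {X : Scheme.{u}} (x : X ⟶ Art.specPt k) {I₀ : X.IdealSheafData}
variable {B A : Art k k} (p : B ⟶ A) (J : (ArtFun.localHilb X x I₀).obj A)

theorem flat_chart (U : X.affineOpens) : ((Ideal.Quotient.mk (J.1.ideal (chart x A U))).comp (cσ x A U)).Flat :=
  (flatOver_iff x A J.1).1 J.2.1 U

/-- A family with flat quotient whose members lift generators of the special fibre is a lift. -/
theorem liftOn_of_family (hp : IsSmallExt p) {t : B} (ht : RingHom.ker p.toAlgHom = Ideal.span {t})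
    (U : X.affineOpens) (L : Ideal Γ(XA x B, (chart x B U).1))
    (hflat : ((Ideal.Quotient.mk L).comp (cσ x B U)).Flat) (hgen : L.map (cι₀ x B U) = I₀.ideal U)
    (hle : L.map (cπ x p U) ≤ J.1.ideal (chart x A U)) : LiftOn x p J hp ht U L := by
  refine (liftOn_iff x p J hp ht U L).2 ⟨hflat, ?_⟩
  refine eq_of_le_of_flat (cσ x A U) (isNilpotent_m A) (flat_chart x J U) hle fun y hy => ?_
  rw [← ker_cι₀, RingHom.ker_eq_comap_bot, ← Ideal.comap_map_of_surjective _ fun r => ⟨_, cι₀_cι x A U r⟩,
    Ideal.mem_comap, Ideal.map_map, show (cι₀ x A U).comp (cπ x p U) = cι₀ x B U from RingHom.ext (cι₀_cπ x p U),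
    hgen, ← comap_incl x J U]
  exact Ideal.mem_map_of_mem _ hy

/-- Regular sequences lift. -/
theorem exists_liftOn_of_regular (hp : IsSmallExt p) {t : B} (ht : RingHom.ker p.toAlgHom = Ideal.span {t})
    (U : X.affineOpens) (rs : List Γ(X, U.1)) (hrs : RingTheory.Sequence.IsWeaklyRegular Γ(X, U.1) rs)
    (hI : I₀.ideal U = Ideal.ofList rs) : ∃ L, LiftOn x p J hp ht U L := by
  choose a ha ha' using fun i : Fin rs.length => HilbRS3.exists_lift x J U
    (show rs.get i ∈ I₀.ideal U from hI ▸ Ideal.subset_span (List.get_mem rs i))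
  choose g hg using fun i => cπ_surjective x p hp.1 U (a i)
  have hg0 : ∀ i, cι₀ x B U (g i) = rs.get i := fun i => by rw [← cι₀_cπ x p U, hg, ha']
  letI := (cσ x B U).toAlgebra
  haveI : Module.Flat B Γ(XA x B, (chart x B U).1) := flat_cσ x B U
  let e : (Γ(XA x B, (chart x B U).1) ⧸ (maximalIdeal B).map (algebraMap B Γ(XA x B, (chart x B U).1))) ≃+* Γ(X, U.1) :=
    (Ideal.quotEquivOfEq (ker_cι₀ x B U).symm).trans
      (RingHom.quotientKerEquivOfSurjective fun r => ⟨_, cι₀_cι x B U r⟩)
  have hmap : (List.ofFn g).map (cι₀ x B U) = rs := by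
    rw [List.map_ofFn, show (cι₀ x B U) ∘ g = rs.get from funext hg0, List.ofFn_get]
  have hreg := EmbDef.isWeaklyRegular_lift (maximalIdeal B) (isNilpotent_m B) (List.ofFn g) (by
    refine ((AddEquiv.isWeaklyRegular_congr (e := e.toAddEquiv) ?_).2 hrs)
    rw [List.forall₂_map_left_iff]
    suffices H : ∀ rs', (List.ofFn g).map (cι₀ x B U) = rs' → List.Forall₂ _ (List.ofFn g) rs' from H rs hmap
    rintro _ rfl
    rw [List.forall₂_map_right_iff, List.forall₂_same]
    intro r _ z
    exact map_mul e _ z)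
  refine ⟨_, liftOn_of_family x p J hp ht U (Ideal.ofList (List.ofFn g)) (RingHom.flat_algebraMap_iff.2 hreg.2) ?_ ?_⟩
  · rw [Ideal.map_ofList, hmap, hI]
  · rw [EmbDef.ofList_ofFn, Ideal.map_span, Ideal.span_le]
    rintro _ ⟨_, ⟨i, rfl⟩, rfl⟩
    rw [hg]; exact ha i

/-- Local lifts along a regular immersion. -/
theorem exists_liftOn_of_regularImmersion (hreg : Mor2.IsRegularClosedImmersion I₀.subschemeι) (hp : IsSmallExt p)
    {t : B} (ht : RingHom.ker p.toAlgHom = Ideal.span {t}) (z : I₀.subscheme) :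
    ∃ U : X.affineOpens, I₀.subschemeι.base z ∈ U.1 ∧ ∃ L, LiftOn x p J hp ht U L := by
  obtain ⟨U, hU, hz, rs, hrs, hI⟩ := hreg.2 z
  rw [Scheme.IdealSheafData.ker_subschemeι] at hI
  exact ⟨⟨U, hU⟩, hz, exists_liftOn_of_regular x p J hp ht ⟨U, hU⟩ rs hrs.toIsWeaklyRegular hI⟩

end Groth.Agent.HilbObs3
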