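import Groth.Agent.Lib.HilbObs3.Regular
import Groth.Agent.Lib.McCoy3.HilbertBurch

/-!
# Local lifts of determinantal subschemes
-/

set_option autoImplicit false
set_option linter.style.haveILetI false
set_option backward.isDefEq.respectTransparency.types false

universe u

open CategoryTheory CategoryTheory.Limits AlgebraicGeometry IsLocalRing Opposite
open scoped Matrix

namespace Groth.Agent.HilbObs3

open ArtFun ArtFun.Art HilbRS3

theorem cond_of_exact {R : Type u} [CommRing R] {n l : ℕ} (φ : Matrix (Fin n) (Fin l) R) (f : Fin n → R)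
    (hinj : Function.Injective φ.mulVecLin)
    (hex : LinearMap.range φ.mulVecLin = LinearMap.ker (Fintype.linearCombination R f)) : HBDef3.Cond φ f ⊥ := by
  refine ⟨fun v hv j => ?_, fun z hz => ?_⟩
  · rw [show v = 0 from hinj (show φ.mulVecLin v = φ.mulVecLin 0 by
      rw [map_zero]; funext i; exact Ideal.mem_bot.1 (hv i))]
    exact zero_mem _
  · obtain ⟨v, hv⟩ := hex.ge (show z ∈ LinearMap.ker _ from LinearMap.mem_ker.2 (by
      rw [Fintype.linearCombination_apply]; exact Ideal.mem_bot.1 hz))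
    exact ⟨v, fun i => by rw [show (φ *ᵥ v) i = z i from congrFun hv i, sub_self]; exact zero_mem _⟩

variable {k : Type u} [Field k] {X : Scheme.{u}} (x : X ⟶ Art.specPt k) {I₀ : X.IdealSheafData}
variable {B A : Art k k} (p : B ⟶ A) (J : (ArtFun.localHilb X x I₀).obj A)

/-- A determinantal subscheme with a Hilbert–Burch resolution lifts. -/
theorem exists_liftOn_of_minors [LocallyOfFiniteType x] (hp : IsSmallExt p) {t : B}
    (ht : RingHom.ker p.toAlgHom = Ideal.span {t}) (U : X.affineOpens) {r : ℕ}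
    (φ : Matrix (Fin (r + 1)) (Fin r) Γ(X, U.1)) (hI : Ideal.span (Set.range (McCoy3.signedMinor φ)) = I₀.ideal U)
    (hinj : Function.Injective φ.mulVecLin)
    (hex : LinearMap.range φ.mulVecLin = LinearMap.ker (Fintype.linearCombination Γ(X, U.1) (McCoy3.signedMinor φ))) :
    ∃ L, LiftOn x p J hp ht U L := by
  have hbot : ∀ C : Art k k, ((maximalIdeal C).map (cσ x C U)).map (cι₀ x C U) = ⊥ := fun C =>
    (Ideal.map_eq_bot_iff_le_ker _).2 (ker_cι₀ x C U).ge
  have hsurj : ∀ C : Art k k, Function.Surjective (cι₀ x C U) := fun C r => ⟨_, cι₀_cι x C U r⟩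
  letI := (cσ x A U).toAlgebra
  letI := (cσ x B U).toAlgebra
  haveI : IsLocallyNoetherian (XA x A) := LocallyOfFiniteType.isLocallyNoetherian (XApr x A)
  haveI : IsNoetherianRing Γ(XA x A, (chart x A U).1) := IsLocallyNoetherian.component_noetherian (chart x A U)
  haveI : Module.Flat A Γ(XA x A, (chart x A U).1) := flat_cσ x A U
  haveI : Module.Flat B Γ(XA x B, (chart x B U).1) := flat_cσ x B U
  haveI : Module.Flat A (Γ(XA x A, (chart x A U).1) ⧸ J.1.ideal (chart x A U)) :=
    RingHom.flat_algebraMap_iff.1 (flat_chart x J U)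
  obtain ⟨φA, hφA, hJA, -⟩ := HBDef3.exists_lift (maximalIdeal A) (isNilpotent_m A) (maximalIdeal A) le_rfl
    (cι₀ x A U) (hsurj A) (ker_cι₀ x A U) (J.1.ideal (chart x A U)) φ hinj hex
    ((comap_incl x J U).trans hI.symm)
    (by rw [show ((maximalIdeal A).map (algebraMap A Γ(XA x A, (chart x A U).1))).map (cι₀ x A U) = ⊥ from hbot A]
        exact cond_of_exact φ _ hinj hex)
  choose b hb using fun i j => cπ_surjective x p hp.1 U (φA i j)
  let φB : Matrix (Fin (r + 1)) (Fin r) Γ(XA x B, (chart x B U).1) := Matrix.of b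
  have hπ : φB.map (cπ x p U) = φA := Matrix.ext fun i j => hb i j
  have h0 : φB.map (cι₀ x B U) = φ := by
    rw [← hφA, ← hπ, Matrix.map_map]
    exact congrArg φB.map (funext fun y => (cι₀_cπ x p U y).symm)
  have hm0 : (cι₀ x B U) ∘ McCoy3.signedMinor φB = McCoy3.signedMinor φ := funext fun i => by
    rw [← h0, HBDef3.map_signedMinor]; rfl
  obtain ⟨-, -, hflat⟩ := HBDef3.exact_of_cond (maximalIdeal B) (isNilpotent_m B) φB (McCoy3.signedMinor φB)
    (McCoy3.sum_signedMinor_mulVec φB) (HBDef3.Cond.of_map (cι₀ x B U) (hsurj B) (ker_cι₀ x B U).le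
      (by rw [show ((maximalIdeal B).map (algebraMap B Γ(XA x B, (chart x B U).1))).map (cι₀ x B U) = ⊥ from hbot B,
            h0, hm0]
          exact cond_of_exact φ _ hinj hex))
  refine ⟨_, liftOn_of_family x p J hp ht U (Ideal.span (Set.range (McCoy3.signedMinor φB)))
    (RingHom.flat_algebraMap_iff.2 hflat) ?_ ?_⟩
  · rw [Ideal.map_span, ← Set.range_comp, hm0, hI]
  · rw [hJA, Ideal.map_span, ← Set.range_comp]
    refine le_of_eq (congrArg (fun f => Ideal.span (Set.range f)) (funext fun i => ?_))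
    rw [← hπ, HBDef3.map_signedMinor]; rfl

end Groth.Agent.HilbObs3
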