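import Groth.Agent.Lib.HilbRS3.Alg
import Mathlib.RingTheory.LocalRing.MaximalIdeal.Basic
import Mathlib.Tactic.LinearCombination

/-!
# Flat lifts of an ideal along a small extension, and their differences
-/

set_option autoImplicit false
set_option linter.style.haveILetI false

universe u

open IsLocalRing

namespace Groth.Agent.HilbObs3

open HilbRS3

/-- The data of a small step: the chart `S` over `B`, its special fibre `R` and a section. -/
structure Step (B S R : Type u) [CommRing B] [IsLocalRing B] [CommRing S] [CommRing R] where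
  /-- The structure map. -/
  σ : B →+* S
  /-- Reduction to the special fibre. -/
  ι₀ : S →+* R
  /-- A section of the reduction. -/
  κ : R → S
  /-- The generator of the kernel. -/
  t : B
  ι₀_κ : ∀ r, ι₀ (κ r) = r
  ker_ι₀ : RingHom.ker ι₀ = (maximalIdeal B).map σ
  mul_t : ∀ b ∈ maximalIdeal B, t * b = 0
  ann_t : ∀ b, t * b = 0 → b ∈ maximalIdeal B
  t_mem : t ∈ maximalIdeal B
  nilp : IsNilpotent (maximalIdeal B)

variable {B S R : Type u} [CommRing B] [IsLocalRing B] [CommRing S] [CommRing R] (D : Step B S R)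

/-- `t r`. -/
noncomputable def Step.e (r : R) : S := D.σ D.t * D.κ r

namespace Step

theorem t_mul_eq_zero {z : S} (hz : z ∈ (maximalIdeal B).map D.σ) : D.σ D.t * z = 0 := by
  induction hz using Submodule.span_induction with
  | mem z hz =>
    obtain ⟨b, hb, rfl⟩ := hz
    rw [← map_mul, D.mul_t b hb, map_zero]
  | zero => rw [mul_zero]
  | add a b _ _ ha hb => rw [mul_add, ha, hb, add_zero]
  | smul r a _ ha => rw [smul_eq_mul, mul_left_comm, ha, mul_zero]

theorem t_mul (s : S) : D.σ D.t * s = D.e (D.ι₀ s) := by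
  rw [e, ← sub_eq_zero, ← mul_sub]
  refine D.t_mul_eq_zero ?_
  rw [← D.ker_ι₀, RingHom.mem_ker, map_sub, D.ι₀_κ, sub_self]

theorem e_add (r s : R) : D.e (r + s) = D.e r + D.e s :=
  ((mul_add (D.σ D.t) (D.κ r) (D.κ s)).symm.trans ((D.t_mul _).trans
    (by rw [map_add, D.ι₀_κ, D.ι₀_κ]))).symm

theorem e_zero : D.e 0 = 0 := by
  have h := D.e_add 0 0
  rw [add_zero, left_eq_add] at h
  exact h

theorem e_sub (r s : R) : D.e (r - s) = D.e r - D.e s := by
  rw [eq_sub_iff_add_eq, ← e_add, sub_add_cancel]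

theorem e_mul (a g : R) : D.e (a * g) = D.κ a * D.e g := by
  rw [show D.κ a * D.e g = D.σ D.t * (D.κ a * D.κ g) by rw [e]; ring, D.t_mul, map_mul, D.ι₀_κ, D.ι₀_κ]

theorem ι₀_e (r : R) : D.ι₀ (D.e r) = 0 := by
  rw [e, map_mul, RingHom.mem_ker.1 (D.ker_ι₀.symm ▸ Ideal.mem_map_of_mem D.σ D.t_mem : D.σ D.t ∈ RingHom.ker D.ι₀), zero_mul]

end Step

variable (P : Ideal S) (I : Ideal R)

/-- A flat lift. -/
structure IsLift (J : Ideal S) : Prop where
  flat : ((Ideal.Quotient.mk J).comp D.σ).Flat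
  sup_eq : J ⊔ Ideal.span {D.σ D.t} = P
  map_eq : J.map D.ι₀ = I

variable {P I} {J J' J'' : Ideal S}

theorem IsLift.mem_P (h : IsLift D P I J) {y : S} (hy : y ∈ J) : y ∈ P := h.sup_eq ▸ Submodule.mem_sup_left hy

theorem IsLift.ι₀_mem (h : IsLift D P I J) {y : S} (hy : y ∈ J) : D.ι₀ y ∈ I := h.map_eq ▸ Ideal.mem_map_of_mem _ hy

theorem IsLift.exists_lift (h : IsLift D P I J) {f : R} (hf : f ∈ I) : ∃ y ∈ J, D.ι₀ y = f := by
  rw [← h.map_eq, Ideal.mem_map_iff_of_surjective _ (fun r => ⟨_, D.ι₀_κ r⟩)] at hf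
  exact hf

theorem IsLift.e_mem (h : IsLift D P I J) {g : R} (hg : g ∈ I) : D.e g ∈ J := by
  obtain ⟨y, hy, rfl⟩ := h.exists_lift D hg
  rw [← D.t_mul]
  exact J.mul_mem_left _ hy

theorem IsLift.mem_of_e_mem (h : IsLift D P I J) {g : R} (hg : D.e g ∈ J) : g ∈ I := by
  obtain ⟨ι, r, hr⟩ := exists_basis D.nilp D.σ J h.flat
  obtain ⟨c, hc⟩ := hr.1 (D.κ g)
  have h0 : D.t • c = 0 := hr.2 _ (by
    rw [comb_smul]
    convert sub_mem hg (J.mul_mem_left (D.σ D.t) hc) using 1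
    rw [Step.e]; ring)
  have hm : ∀ i, c i ∈ maximalIdeal B := fun i => D.ann_t _ (by simpa using congrArg (fun d : ι →₀ B => d i) h0)
  have h1 : D.ι₀ (comb D.σ r c) = 0 := by
    have : comb D.σ r c ∈ (maximalIdeal B).map D.σ := by
      have key : ∀ d : ι →₀ B, (∀ i, d i ∈ maximalIdeal B) → comb D.σ r d ∈ (maximalIdeal B).map D.σ := by
        classical
        intro d
        induction d using Finsupp.induction with
        | zero => intro _; rw [map_zero]; exact zero_mem _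
        | single_add i b d hi _ ih =>
          intro hd
          rw [map_add, comb_single]
          refine add_mem (Ideal.mul_mem_right _ _ (Ideal.mem_map_of_mem _ ?_)) (ih fun j => ?_)
          · simpa [Finsupp.notMem_support_iff.1 hi] using hd i
          · by_cases hji : j = i
            · rw [hji, Finsupp.notMem_support_iff.1 hi]; exact zero_mem _
            · simpa [Finsupp.single_eq_of_ne hji] using hd j
      exact key c hm
    rwa [← D.ker_ι₀, RingHom.mem_ker] at this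
  have h2 := h.ι₀_mem D hc
  rwa [map_sub, D.ι₀_κ, h1, sub_zero] at h2

/-- Elements of a flat lift vanishing on the special fibre lie in `m J`. -/
theorem IsLift.mem_smul (h : IsLift D P I J) {z : S} (hz : z ∈ J) (hz0 : D.ι₀ z = 0) :
    z ∈ (maximalIdeal B).map D.σ * J := by
  obtain ⟨ι, r, hr⟩ := exists_basis D.nilp D.σ J h.flat
  choose co hco using hr.1
  have hlin : ∀ (b : B) (s : S), co (D.σ b * s) = b • co s := fun b s => hr.unique (hco _) (by
    rw [comb_smul, ← mul_sub]; exact J.mul_mem_left _ (hco s))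
  have hadd : ∀ s s', co (s + s') = co s + co s' := fun s s' => hr.unique (hco _) (by
    rw [map_add, add_sub_add_comm]; exact add_mem (hco s) (hco s'))
  have key : ∀ w ∈ (maximalIdeal B).map D.σ, ∀ a, a * w - comb D.σ r (co (a * w)) ∈ (maximalIdeal B).map D.σ * J := by
    intro w hw
    induction hw using Submodule.span_induction with
    | mem w hw =>
      obtain ⟨b, hb, rfl⟩ := hw
      intro a
      rw [mul_comm a, hlin, comb_smul, ← mul_sub]
      exact Ideal.mul_mem_mul (Ideal.mem_map_of_mem _ hb) (hco a)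
    | zero =>
      intro a
      rw [mul_zero, show co 0 = 0 from hr.unique (hco 0) (by simp), map_zero, sub_zero]
      exact zero_mem _
    | add u v _ _ hu hv =>
      intro a
      rw [mul_add, hadd, map_add, add_sub_add_comm]
      exact add_mem (hu a) (hv a)
    | smul q u _ hu =>
      intro a
      rw [smul_eq_mul, ← mul_assoc]
      exact hu _
  have hz' : z ∈ (maximalIdeal B).map D.σ := by rw [← D.ker_ι₀]; exact hz0
  have := key z hz' 1
  rwa [one_mul, show co z = 0 from hr.unique (hco z) (by rw [map_zero, sub_zero]; exact hz), map_zero, sub_zero] at this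

/-- The maximal ideal times a lift is contained in every lift. -/
theorem IsLift.smul_le (h : IsLift D P I J) (h' : IsLift D P I J') : (maximalIdeal B).map D.σ * J ≤ J' := by
  rw [Ideal.mul_le]
  intro m hm y hy
  have hyP := h.mem_P D hy
  rw [← h'.sup_eq] at hyP
  obtain ⟨y', hy', u, hu, rfl⟩ := Submodule.mem_sup.1 hyP
  obtain ⟨s, rfl⟩ := Ideal.mem_span_singleton'.1 hu
  rw [mul_add]
  refine add_mem (J'.mul_mem_left _ hy') ?_
  rw [show m * (s * D.σ D.t) = s * (D.σ D.t * m) by ring, D.t_mul_eq_zero hm, mul_zero]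
  exact zero_mem _

/-- `g` is the difference of `J'` and `J` at `f`. -/
def Diff (J J' : Ideal S) (f g : R) : Prop := ∃ y ∈ J, D.ι₀ y = f ∧ y + D.e g ∈ J'

theorem exists_diff (h : IsLift D P I J) (h' : IsLift D P I J') {f : R} (hf : f ∈ I) : ∃ g, Diff D J J' f g := by
  obtain ⟨y, hy, hyf⟩ := h.exists_lift D hf
  have hyP := h.mem_P D hy
  rw [← h'.sup_eq] at hyP
  obtain ⟨y', hy', u, hu, e⟩ := Submodule.mem_sup.1 hyP
  obtain ⟨s, rfl⟩ := Ideal.mem_span_singleton'.1 hu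
  refine ⟨-D.ι₀ s, y, hy, hyf, ?_⟩
  convert hy' using 1
  rw [← map_neg D.ι₀ s, ← D.t_mul, ← e]; ring

theorem diff_unique (h : IsLift D P I J) (h' : IsLift D P I J') {f g g' : R} (hg : Diff D J J' f g)
    (hg' : Diff D J J' f g') : g - g' ∈ I := by
  obtain ⟨y, hy, hyf, hyg⟩ := hg
  obtain ⟨y', hy', hyf', hyg'⟩ := hg'
  refine h'.mem_of_e_mem D ?_
  have h1 := h.smul_le D h' (h.mem_smul D (sub_mem hy hy') (by rw [map_sub, hyf, hyf', sub_self]))
  convert sub_mem (sub_mem hyg hyg') h1 using 1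
  rw [D.e_sub]; ring

theorem diff_congr (h' : IsLift D P I J') {f g g' : R} (hg : Diff D J J' f g) (hgg : g' - g ∈ I) : Diff D J J' f g' := by
  obtain ⟨y, hy, hyf, hyg⟩ := hg
  refine ⟨y, hy, hyf, ?_⟩
  convert add_mem hyg (h'.e_mem D hgg) using 1
  rw [D.e_sub]; ring

theorem diff_self (h : IsLift D P I J) {f : R} (hf : f ∈ I) : Diff D J J f 0 := by
  obtain ⟨y, hy, hyf⟩ := h.exists_lift D hf
  exact ⟨y, hy, hyf, by rw [D.e_zero, add_zero]; exact hy⟩

theorem diff_add {f f' g g' : R} (hg : Diff D J J' f g) (hg' : Diff D J J' f' g') : Diff D J J' (f + f') (g + g') := by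
  obtain ⟨y, hy, hyf, hyg⟩ := hg
  obtain ⟨y', hy', hyf', hyg'⟩ := hg'
  refine ⟨y + y', add_mem hy hy', by rw [map_add, hyf, hyf'], ?_⟩
  rw [D.e_add, add_add_add_comm]; exact add_mem hyg hyg'

theorem diff_smul (a : R) {f g : R} (hg : Diff D J J' f g) : Diff D J J' (a * f) (a * g) := by
  obtain ⟨y, hy, hyf, hyg⟩ := hg
  refine ⟨D.κ a * y, J.mul_mem_left _ hy, by rw [map_mul, D.ι₀_κ, hyf], ?_⟩
  convert J'.mul_mem_left (D.κ a) hyg using 1
  rw [D.e_mul]; ring

theorem diff_trans (h' : IsLift D P I J') (h'' : IsLift D P I J'') {f g g' : R}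
    (hg : Diff D J J' f g) (hg' : Diff D J' J'' f g') : Diff D J J'' f (g + g') := by
  obtain ⟨y, hy, hyf, hyg⟩ := hg
  obtain ⟨y', hy', hyf', hyg'⟩ := hg'
  refine ⟨y, hy, hyf, ?_⟩
  have h1 := h'.smul_le D h'' (h'.mem_smul D (sub_mem hyg hy') (by
    rw [map_sub, map_add, D.ι₀_e g, hyf, hyf', add_zero, sub_self]))
  convert add_mem hyg' h1 using 1
  rw [D.e_add]; ring

theorem le_of_diff_zero (h : IsLift D P I J) (h' : IsLift D P I J')
    (hd : ∀ f ∈ I, ∀ g, Diff D J J' f g → g ∈ I) : J ≤ J' := by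
  intro y hy
  obtain ⟨g, y₁, hy₁, hy₁f, hy₁g⟩ := exists_diff D h h' (h.ι₀_mem D hy)
  have hgI := hd _ (h.ι₀_mem D hy) g ⟨y₁, hy₁, hy₁f, hy₁g⟩
  have h1 := h.smul_le D h' (h.mem_smul D (sub_mem hy hy₁) (by rw [map_sub, hy₁f, sub_self]))
  convert add_mem (sub_mem hy₁g (h'.e_mem D hgI)) h1 using 1
  ring

theorem eq_of_diff_zero (h : IsLift D P I J) (h' : IsLift D P I J')
    (hd : ∀ f ∈ I, ∀ g, Diff D J J' f g → g ∈ I) : J = J' := by
  refine le_antisymm (le_of_diff_zero D h h' hd) (le_of_diff_zero D h' h fun f hf g hg => ?_)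
  obtain ⟨g', hg'⟩ := exists_diff D h h' hf
  have h1 := diff_trans D h' h hg' hg
  have h2 := diff_unique D h h h1 (diff_self D h hf)
  rw [sub_zero] at h2
  exact (add_sub_cancel_left g' g) ▸ sub_mem h2 (hd f hf g' hg')

/-- The ideal translated by a homomorphism `I → R/I`. -/
noncomputable def translate (h : IsLift D P I J) (d : R → R)
    (hadd : ∀ f ∈ I, ∀ f' ∈ I, d (f + f') - (d f + d f') ∈ I) (hsmul : ∀ a, ∀ f ∈ I, d (a * f) - a * d f ∈ I) :
    Ideal S where
  carrier := {z | ∃ y ∈ J, ∃ g, g - d (D.ι₀ y) ∈ I ∧ z = y + D.e g}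
  zero_mem' := ⟨0, zero_mem _, 0, by
    rw [map_zero, zero_sub]
    have h1 := hsmul 0 0 (zero_mem _)
    rw [zero_mul, zero_mul, sub_zero] at h1
    exact neg_mem h1, by rw [D.e_zero, add_zero]⟩
  add_mem' := by
    rintro _ _ ⟨y, hy, g, hg, rfl⟩ ⟨y', hy', g', hg', rfl⟩
    refine ⟨y + y', add_mem hy hy', g + g', ?_, by rw [D.e_add]; ring⟩
    convert sub_mem (add_mem hg hg') (hadd _ (h.ι₀_mem D hy) _ (h.ι₀_mem D hy')) using 1
    rw [map_add]; ring
  smul_mem' := by
    rintro s _ ⟨y, hy, g, hg, rfl⟩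
    refine ⟨s * y, J.mul_mem_left _ hy, D.ι₀ s * g, ?_, ?_⟩
    · convert sub_mem (I.mul_mem_left (D.ι₀ s) hg) (hsmul (D.ι₀ s) _ (h.ι₀_mem D hy)) using 1
      rw [map_mul]; ring
    · rw [smul_eq_mul, mul_add]
      congr 1
      rw [show s * D.e g = D.σ D.t * (s * D.κ g) by rw [Step.e]; ring, D.t_mul, map_mul, D.ι₀_κ]

theorem diff_translate (h : IsLift D P I J) (d : R → R)
    (hadd : ∀ f ∈ I, ∀ f' ∈ I, d (f + f') - (d f + d f') ∈ I) (hsmul : ∀ a, ∀ f ∈ I, d (a * f) - a * d f ∈ I)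
    {f : R} (hf : f ∈ I) : Diff D J (translate D h d hadd hsmul) f (d f) := by
  obtain ⟨y, hy, hyf⟩ := h.exists_lift D hf
  exact ⟨y, hy, hyf, y, hy, d f, by rw [hyf, sub_self]; exact zero_mem _, rfl⟩

theorem isLift_translate (h : IsLift D P I J) (d : R → R)
    (hadd : ∀ f ∈ I, ∀ f' ∈ I, d (f + f') - (d f + d f') ∈ I) (hsmul : ∀ a, ∀ f ∈ I, d (a * f) - a * d f ∈ I) :
    IsLift D P I (translate D h d hadd hsmul) := by
  have hspan : ∀ g, D.e g ∈ Ideal.span {D.σ D.t} := fun g =>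
    Ideal.mul_mem_right _ _ (Ideal.mem_span_singleton_self _)
  have hget : ∀ f ∈ I, ∃ y ∈ J, D.ι₀ y = f := fun f hf => h.exists_lift D hf
  refine ⟨?_, le_antisymm (sup_le ?_ (h.sup_eq ▸ le_sup_right)) ?_, le_antisymm (Ideal.map_le_iff_le_comap.2 ?_) fun f hf => ?_⟩
  · obtain ⟨ι, r, hr⟩ := exists_basis D.nilp D.σ J h.flat
    have hd0 : d 0 ∈ I := by simpa using hsmul 0 0 (zero_mem _)
    refine IsBasisMod.flat (r := r) ⟨fun s => ?_, fun c hc => ?_⟩
    · obtain ⟨c, hc⟩ := hr.1 s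
      obtain ⟨c', hc'⟩ := hr.1 (D.κ (d (D.ι₀ (s - comb D.σ r c))))
      refine ⟨c - D.t • c', _, hc, d (D.ι₀ (s - comb D.σ r c)) -
        D.ι₀ (D.κ (d (D.ι₀ (s - comb D.σ r c))) - comb D.σ r c'), ?_, ?_⟩
      · rw [sub_sub_cancel_left]
        exact neg_mem (h.ι₀_mem D hc')
      · rw [map_sub (comb D.σ r), comb_smul, D.e_sub, ← D.t_mul, Step.e]
        ring
    · obtain ⟨y, hy, g, hg, e⟩ := hc
      obtain ⟨c', hc'⟩ := hr.1 (D.κ g)
      have h1 : c - D.t • c' = 0 := hr.2 _ (by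
        rw [map_sub, comb_smul, e, Step.e, add_sub_assoc, ← mul_sub]
        exact add_mem hy (J.mul_mem_left _ hc'))
      have h2 : D.ι₀ y = 0 := by
        have e' := congrArg D.ι₀ e
        rw [map_add, D.ι₀_e, add_zero, sub_eq_zero.1 h1, comb_smul, D.t_mul, D.ι₀_e] at e'
        exact e'.symm
      rw [h2] at hg
      refine hr.2 c ?_
      rw [e]
      exact add_mem hy (h.e_mem D ((sub_add_cancel g (d 0)) ▸ add_mem hg hd0))
  · rintro _ ⟨y, hy, g, -, rfl⟩
    exact h.sup_eq ▸ Submodule.add_mem_sup hy (hspan g)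
  · refine h.sup_eq.ge.trans (sup_le (fun y hy => ?_) le_sup_right)
    rw [show y = (y + D.e (d (D.ι₀ y))) + -D.e (d (D.ι₀ y)) by ring]
    exact Submodule.add_mem_sup ⟨y, hy, _, by rw [sub_self]; exact zero_mem _, rfl⟩ (neg_mem (hspan _))
  · rintro _ ⟨y, hy, g, -, rfl⟩
    rw [Ideal.mem_comap, map_add, D.ι₀_e g, add_zero]
    exact h.ι₀_mem D hy
  · obtain ⟨y, hy, rfl⟩ := hget f hf
    rw [← add_zero (D.ι₀ y), ← D.ι₀_e (d (D.ι₀ y)), ← map_add]
    exact Ideal.mem_map_of_mem _ ⟨y, hy, _, by rw [sub_self]; exact zero_mem _, rfl⟩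

end Groth.Agent.HilbObs3
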