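import Groth.Agent.Lib.HilbObs3.Regular
import Groth.Agent.Lib.HilbObs3.Semismall

/-!
# Local lifts along surjections for regular immersions
-/

set_option autoImplicit false
set_option linter.style.haveILetI false
set_option backward.isDefEq.respectTransparency.types false

universe u

open CategoryTheory CategoryTheory.Limits AlgebraicGeometry IsLocalRing Opposite

namespace Groth.Agent.HilbObs3

open ArtFun ArtFun.Art HilbRS3

variable {k : Type u} [Field k] {X : Scheme.{u}} (x : X ⟶ Art.specPt k) {I₀ : X.IdealSheafData}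
variable {B A : Art k k} (p : B ⟶ A) (J : (ArtFun.localHilb X x I₀).obj A)

/-- Regular sequences lift along surjections. -/
theorem exists_liftP_of_regular (hp : Function.Surjective p)
    (U : X.affineOpens) (rs : List Γ(X, U.1)) (hrs : RingTheory.Sequence.IsWeaklyRegular Γ(X, U.1) rs)
    (hI : I₀.ideal U = Ideal.ofList rs) : ∃ L, LiftP x p J U L := by
  choose a ha ha' using fun i : Fin rs.length => HilbRS3.exists_lift x J U
    (show rs.get i ∈ I₀.ideal U from hI ▸ Ideal.subset_span (List.get_mem rs i))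
  choose g hg using fun i => cπ_surjective x p hp U (a i)
  have hg0 : ∀ i, cι₀ x B U (g i) = rs.get i := fun i => by rw [← cι₀_cπ x p U, hg, ha']
  letI := (cσ x B U).toAlgebra
  haveI : Module.Flat B Γ(XA x B, (chart x B U).1) := flat_cσ x B U
  let e : (Γ(XA x B, (chart x B U).1) ⧸ (maximalIdeal B).map (algebraMap B Γ(XA x B, (chart x B U).1))) ≃+* Γ(X, U.1) :=
    (Ideal.quotEquivOfEq (ker_cι₀ x B U).symm).trans
      (RingHom.quotientKerEquivOfSurjective fun r => ⟨_, cι₀_cι x B U r⟩)
  have hmap : (List.ofFn g).map (cι₀ x B U) = rs := by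
    rw [List.map_ofFn, show (cι₀ x B U) ∘ g = rs.get from funext hg0, List.ofFn_get]
  have hreg := EmbDef.isWeaklyRegular_lift (maximalIdeal B) (isNilpotent_m B) (List.ofFn g) (by
    refine ((AddEquiv.isWeaklyRegular_congr (e := e.toAddEquiv) ?_).2 hrs)
    rw [List.forall₂_map_left_iff]
    suffices H : ∀ rs', (List.ofFn g).map (cι₀ x B U) = rs' → List.Forall₂ _ (List.ofFn g) rs' from H rs hmap
    rintro _ rfl
    rw [List.forall₂_map_right_iff, List.forall₂_same]
    intro r _ z
    exact map_mul e _ z)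
  refine ⟨Ideal.ofList (List.ofFn g), RingHom.flat_algebraMap_iff.2 hreg.2, ?_⟩
  refine eq_of_le_of_flat (cσ x A U) (isNilpotent_m A) (flat_chart x J U) ?_ fun y hy => ?_
  · rw [EmbDef.ofList_ofFn, Ideal.map_span, Ideal.span_le]
    rintro _ ⟨_, ⟨i, rfl⟩, rfl⟩
    rw [hg]; exact ha i
  rw [← ker_cι₀, RingHom.ker_eq_comap_bot, ← Ideal.comap_map_of_surjective _ fun r => ⟨_, cι₀_cι x A U r⟩,
    Ideal.mem_comap, Ideal.map_map, show (cι₀ x A U).comp (cπ x p U) = cι₀ x B U from RingHom.ext (cι₀_cπ x p U),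
    Ideal.map_ofList, hmap, ← hI, ← comap_incl x J U]
  exact Ideal.mem_map_of_mem _ hy

/-- Off the subscheme the unit ideal is a lift. -/
theorem exists_liftP_top (U : X.affineOpens) (hU : I₀.ideal U = ⊤) : ∃ L, LiftP x p J U L := by
  refine ⟨⊤, ?_, by rw [Ideal.map_top, ideal_chart_eq_top x J U hU]⟩
  haveI : Subsingleton (Γ(XA x B, (chart x B U).1) ⧸ (⊤ : Ideal Γ(XA x B, (chart x B U).1))) :=
    Ideal.Quotient.subsingleton_iff.2 rfl
  algebraize [(Ideal.Quotient.mk (⊤ : Ideal Γ(XA x B, (chart x B U).1))).comp (cσ x B U)]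
  exact Module.Flat.of_free

end Groth.Agent.HilbObs3
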